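import Mathlib
import Cfsg.Agent.Lib.Zsigmondy
import Cfsg.Agent.H176.NFBase
import Cfsg.Agent.S0242
import Cfsg.Agent.S0243
import Cfsg.Prelude.Def_Classical
import Cfsg.Agent.S0274
import Cfsg.Agent.ClassicalGeometry.PSL2Solvable
import Cfsg.Agent.S0245
import Cfsg.Agent.S0246
import Cfsg.Agent.Lib.Cores
import Cfsg.Agent.S0044
import Cfsg.Agent.Lib.NormalAbelian
import Cfsg.Agent.FastGrp
import Cfsg.Agent.Prune
set_option linter.all false

section
prune_inst 0x7fffe8f9bbbc3ddfff7f7e77fffcddfdfbb9bfffa4dff9cb3fe02bdfbbff6b8209c5fbad0be880fe5e96c09410e87b43f9ffceffea6bdc7ffffd5ff45ffbfe1fbfefbd0051d488340fbc6ffef3f0778e7f3fffffffffffffffffffffffffffbefffdffffffff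

-- part: H518/DghpFix
section
set_option linter.all false
open scoped Cfsg.Agent.FastGrp

/-!
# Fixed spaces of elements of prime order

Counting modulo `r`: if `f` has order a power of the prime `r`, then the dimension of an `f`-invariant subspace and the
dimension of its fixed points differ by a multiple of the order of `q` modulo `r`.
-/

set_option autoImplicit false

namespace Cfsg.Agent.H518.DghpFix

open Module

universe u v

variable {F : Type u} [Field F] {V : Type v} [AddCommGroup V] [Module F V]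

/-- The fixed space of a linear map. -/
def fixS (f : V →ₗ[F] V) : Submodule F V := LinearMap.eqLocus f LinearMap.id

theorem mem_fixS {f : V →ₗ[F] V} {v : V} : v ∈ fixS f ↔ f v = v := Iff.rfl

theorem fixS_eq_top_iff {f : V →ₗ[F] V} : fixS f = ⊤ ↔ f = 1 := by
  constructor
  · intro h
    ext v
    have : v ∈ fixS f := by rw [h]; trivial
    exact this
  · rintro rfl
    exact eq_top_iff.2 fun v _ => rfl

/-- The fixed space of a map is invariant under commuting maps. -/
theorem fixS_invariant {f g : V →ₗ[F] V} (h : f * g = g * f) : ∀ v ∈ fixS f, g v ∈ fixS f := by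
  intro v hv
  rw [mem_fixS] at hv ⊢
  have h1 : (f * g) v = (g * f) v := by rw [h]
  rw [Module.End.mul_apply, Module.End.mul_apply, hv] at h1
  exact h1

theorem inf_invariant {f : V →ₗ[F] V} {W W' : Submodule F V} (h : ∀ v ∈ W, f v ∈ W) (h' : ∀ v ∈ W', f v ∈ W') :
    ∀ v ∈ W ⊓ W', f v ∈ W ⊓ W' := fun v hv => ⟨h v hv.1, h' v hv.2⟩

/-- Counting fixed points modulo `r`. -/
theorem card_modEq [Finite V] {f : V →ₗ[F] V} {r k : ℕ} (hr : r.Prime) (hf : f ^ r ^ k = 1) (W : Submodule F V)
    (hW : ∀ v ∈ W, f v ∈ W) : Nat.card W ≡ Nat.card ↥(W ⊓ fixS f) [MOD r] := by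
  classical
  have : Fact r.Prime := ⟨hr⟩
  have : Fintype W := Fintype.ofFinite _
  let g : Function.End W := fun w => ⟨f w, hW w w.2⟩
  have hit : ∀ (m : ℕ) (w : W), (((g ^ m : Function.End W) w : W) : V) = (f ^ m) (w : V) := by
    intro m
    induction m with
    | zero => intro w; rfl
    | succ m ih =>
      intro w
      rw [pow_succ, pow_succ]
      show (((g ^ m : Function.End W) (g w) : W) : V) = _
      rw [ih]
      rfl
  have hg : g ^ r ^ k = 1 := by
    funext w
    apply Subtype.ext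
    rw [hit, hf]
    rfl
  have h1 := Equiv.Perm.card_fixedPoints_modEq (f := g) (p := r) (n := k) hg
  rw [← Nat.card_eq_fintype_card, ← Nat.card_eq_fintype_card] at h1
  have h2 : Nat.card (Function.fixedPoints g) = Nat.card ↥(W ⊓ fixS f) := by
    refine Nat.card_congr
      { toFun := fun w => ⟨(w.1 : V), w.1.2, congrArg Subtype.val w.2⟩
        invFun := fun w => ⟨⟨w.1, w.2.1⟩, Subtype.ext w.2.2⟩
        left_inv := fun w => rfl
        right_inv := fun w => rfl }
  rw [h2] at h1
  exact h1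

variable [Fintype F] [FiniteDimensional F V]

/-- The dimension of the space of fixed points modulo the order of `q` modulo `r`. -/
theorem finrank_fix {f : V →ₗ[F] V} {r k : ℕ} (hr : r.Prime) (hrF : ¬ r ∣ Fintype.card F) (hf : f ^ r ^ k = 1)
    (W : Submodule F V) (hW : ∀ v ∈ W, f v ∈ W) :
    orderOf ((Fintype.card F : ℕ) : ZMod r) ∣ finrank F W - finrank F ↥(W ⊓ fixS f) := by
  have : Finite F := Finite.of_fintype F
  have : Finite V := Module.finite_of_finite F
  have h1 := card_modEq hr hf W hW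
  have h2 : Nat.card W = Fintype.card F ^ finrank F W := by
    rw [Module.natCard_eq_pow_finrank (K := F) (V := W), Nat.card_eq_fintype_card]
  have h3 : Nat.card ↥(W ⊓ fixS f) = Fintype.card F ^ finrank F ↥(W ⊓ fixS f) := by
    rw [Module.natCard_eq_pow_finrank (K := F) (V := ↥(W ⊓ fixS f)), Nat.card_eq_fintype_card]
  have hle : finrank F ↥(W ⊓ fixS f) ≤ finrank F W := Submodule.finrank_mono inf_le_left
  rw [h2, h3] at h1
  have hq : 1 ≤ Fintype.card F := Fintype.card_pos
  rw [← Lib.Zsigmondy.dvd_pow_sub_one_iff hq]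
  have h4 : r ∣ Fintype.card F ^ finrank F W - Fintype.card F ^ finrank F ↥(W ⊓ fixS f) :=
    (Nat.modEq_iff_dvd' (Nat.pow_le_pow_right hq hle)).1 h1.symm
  have h5 : Fintype.card F ^ finrank F W - Fintype.card F ^ finrank F ↥(W ⊓ fixS f) =
      Fintype.card F ^ finrank F ↥(W ⊓ fixS f) * (Fintype.card F ^ (finrank F W - finrank F ↥(W ⊓ fixS f)) - 1) := by
    rw [Nat.mul_sub, mul_one, ← pow_add, Nat.add_sub_cancel' hle]
  rw [h5] at h4
  exact ((Nat.Prime.dvd_mul hr).1 h4).resolve_left fun h => hrF (hr.dvd_of_dvd_pow h)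

/-- A map of order a power of the characteristic has nonzero fixed points on every nonzero invariant subspace. -/
theorem inf_fixS_ne_bot {f : V →ₗ[F] V} {p k : ℕ} (hp : p.Prime) (hpF : p ∣ Fintype.card F) (hf : f ^ p ^ k = 1)
    (W : Submodule F V) (hW : ∀ v ∈ W, f v ∈ W) (hW0 : W ≠ ⊥) : W ⊓ fixS f ≠ ⊥ := by
  intro hbot
  have : Finite F := Finite.of_fintype F
  have : Finite V := Module.finite_of_finite F
  have h1 := card_modEq hp hf W hW
  rw [hbot] at h1
  have h2 : Nat.card W = Fintype.card F ^ finrank F W := by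
    rw [Module.natCard_eq_pow_finrank (K := F) (V := W), Nat.card_eq_fintype_card]
  have h3 : Nat.card (⊥ : Submodule F V) = 1 := by simp
  have h4 : finrank F W ≠ 0 := by
    intro h
    exact hW0 (Submodule.finrank_eq_zero.1 h)
  have h5 : p ∣ Nat.card W := by
    rw [h2]
    exact dvd_pow hpF h4
  rw [h3] at h1
  have h6 := (Nat.ModEq.dvd_iff h1 dvd_rfl).1 h5
  exact hp.one_lt.ne' (Nat.dvd_one.1 h6)

/-- **Lemma a.** Two commuting elements of orders `r` and `s`. -/
theorem no_commuting {x y : V →ₗ[F] V} {r s : ℕ} (hr : r.Prime) (hs : s.Prime) (hrF : ¬ r ∣ Fintype.card F)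
    (hsF : ¬ s ∣ Fintype.card F) (hx : x ^ r = 1) (hx1 : x ≠ 1) (hy : y ^ s = 1) (hy1 : y ≠ 1) (hxy : x * y = y * x)
    (h2e : finrank F V < 2 * orderOf ((Fintype.card F : ℕ) : ZMod r))
    (hf : finrank F V < orderOf ((Fintype.card F : ℕ) : ZMod r) + orderOf ((Fintype.card F : ℕ) : ZMod s))
    (hfe : ¬ orderOf ((Fintype.card F : ℕ) : ZMod s) ∣ orderOf ((Fintype.card F : ℕ) : ZMod r)) : False := by
  obtain ⟨e, he⟩ : ∃ e, orderOf ((Fintype.card F : ℕ) : ZMod r) = e := ⟨_, rfl⟩
  obtain ⟨f, hfdef⟩ : ∃ f, orderOf ((Fintype.card F : ℕ) : ZMod s) = f := ⟨_, rfl⟩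
  obtain ⟨d, hd⟩ : ∃ d, finrank F V = d := ⟨_, rfl⟩
  rw [he, hd] at h2e
  rw [he, hfdef, hd] at hf
  rw [he, hfdef] at hfe
  have hx' : x ^ r ^ 1 = 1 := by rw [pow_one, hx]
  have hy' : y ^ s ^ 1 = 1 := by rw [pow_one, hy]
  have htop : finrank F (⊤ : Submodule F V) = d := by rw [finrank_top, hd]
  -- the fixed spaces
  have hcx : finrank F (fixS x) < d := by
    rw [← hd]
    refine lt_of_le_of_ne (Submodule.finrank_le _) fun h => hx1 ?_
    exact fixS_eq_top_iff.1 (Submodule.eq_top_of_finrank_eq h)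
  have hcy : finrank F (fixS y) < d := by
    rw [← hd]
    refine lt_of_le_of_ne (Submodule.finrank_le _) fun h => hy1 ?_
    exact fixS_eq_top_iff.1 (Submodule.eq_top_of_finrank_eq h)
  have h1 := finrank_fix hr hrF hx' ⊤ (fun _ _ => trivial)
  rw [top_inf_eq, htop, he] at h1
  have h2 : finrank F (fixS x) = d - e := by
    obtain ⟨m, hm⟩ := h1
    have hm0 : m ≠ 0 := by
      rintro rfl
      omega
    have hm1 : m < 2 := by
      by_contra hcon
      have : 2 * e ≤ e * m := by
        rw [mul_comm]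
        exact Nat.mul_le_mul_left e (by omega)
      omega
    have : m = 1 := by omega
    subst this
    omega
  have hed : e ≤ d := by
    obtain ⟨m, hm⟩ := h1
    have hm0 : m ≠ 0 := by
      rintro rfl
      omega
    have : e * 1 ≤ e * m := Nat.mul_le_mul_left e (by omega)
    omega
  -- `y` on the fixed space of `x`
  have h3 := finrank_fix hs hsF hy' (fixS x) (fixS_invariant hxy)
  rw [hfdef] at h3
  have h4 : fixS x ≤ fixS y := by
    have h5 : finrank F ↥(fixS x ⊓ fixS y) ≤ finrank F (fixS x) := Submodule.finrank_mono inf_le_left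
    have h6 : finrank F ↥(fixS x ⊓ fixS y) = finrank F (fixS x) := by
      obtain ⟨m, hm⟩ := h3
      rcases Nat.eq_zero_or_pos m with h | h
      · rw [h] at hm
        omega
      · have : f * 1 ≤ f * m := Nat.mul_le_mul_left f h
        omega
    have h7 : fixS x ⊓ fixS y = fixS x := Submodule.eq_of_le_of_finrank_eq inf_le_left h6
    exact inf_eq_left.1 h7
  -- `x` on the fixed space of `y`
  have h5 := finrank_fix hr hrF hx' (fixS y) (fixS_invariant hxy.symm)
  rw [inf_eq_right.2 h4, he] at h5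
  have h6 : finrank F (fixS y) = d - e := by
    have h7 : finrank F (fixS x) ≤ finrank F (fixS y) := Submodule.finrank_mono h4
    obtain ⟨m, hm⟩ := h5
    rcases Nat.eq_zero_or_pos m with h | h
    · rw [h] at hm
      omega
    · have : e * 1 ≤ e * m := Nat.mul_le_mul_left e h
      omega
  have h7 := finrank_fix hs hsF hy' ⊤ (fun _ _ => trivial)
  rw [top_inf_eq, htop, h6, hfdef] at h7
  have h8 : d - (d - e) = e := by omega
  rw [h8] at h7
  exact hfe h7

/-- An element of order `r` whose order `e` of `q` modulo `r` is the dimension has no proper invariant subspaces. -/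
theorem invariant_eq {x : V →ₗ[F] V} {r k : ℕ} (hr : r.Prime) (hrF : ¬ r ∣ Fintype.card F) (hx : x ^ r ^ k = 1)
    (hx1 : x ≠ 1) (he : orderOf ((Fintype.card F : ℕ) : ZMod r) = finrank F V) (W : Submodule F V)
    (hW : ∀ v ∈ W, x v ∈ W) : W = ⊥ ∨ W = ⊤ := by
  obtain ⟨d, hd⟩ : ∃ d, finrank F V = d := ⟨_, rfl⟩
  rw [hd] at he
  have htop : finrank F (⊤ : Submodule F V) = d := by rw [finrank_top, hd]
  have hcx : finrank F (fixS x) < d := by
    rw [← hd]
    refine lt_of_le_of_ne (Submodule.finrank_le _) fun h => hx1 ?_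
    exact fixS_eq_top_iff.1 (Submodule.eq_top_of_finrank_eq h)
  have h1 := finrank_fix hr hrF hx ⊤ (fun _ _ => trivial)
  rw [top_inf_eq, htop, he] at h1
  have h2 : finrank F (fixS x) = 0 := by
    obtain ⟨m, hm⟩ := h1
    rcases Nat.eq_zero_or_pos m with h | h
    · rw [h] at hm
      omega
    · have : d * 1 ≤ d * m := Nat.mul_le_mul_left d h
      omega
  have h3 : fixS x = ⊥ := Submodule.finrank_eq_zero.1 h2
  have h4 := finrank_fix hr hrF hx W hW
  rw [h3, inf_bot_eq, finrank_bot, Nat.sub_zero, he] at h4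
  obtain ⟨m, hm⟩ := h4
  rcases Nat.eq_zero_or_pos m with h | h
  · left
    rw [h, mul_zero] at hm
    exact Submodule.finrank_eq_zero.1 hm
  · right
    have : d * 1 ≤ d * m := Nat.mul_le_mul_left d h
    have h5 : finrank F W ≤ d := hd ▸ Submodule.finrank_le W
    exact Submodule.eq_top_of_finrank_eq (by omega)

/-- **Lemma a'.** An irreducible element of order `r` does not commute with an element of order `p`. -/
theorem no_commuting_char {x y : V →ₗ[F] V} {r p k l : ℕ} (hr : r.Prime) (hp : p.Prime) (hrF : ¬ r ∣ Fintype.card F)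
    (hpF : p ∣ Fintype.card F) (hx : x ^ r ^ k = 1) (hx1 : x ≠ 1) (hy : y ^ p ^ l = 1) (hy1 : y ≠ 1)
    (hxy : x * y = y * x) (he : orderOf ((Fintype.card F : ℕ) : ZMod r) = finrank F V) : False := by
  have hV : (⊤ : Submodule F V) ≠ ⊥ := by
    intro h
    apply hx1
    ext v
    have hv : v ∈ (⊤ : Submodule F V) := trivial
    rw [h, Submodule.mem_bot] at hv
    rw [hv, map_zero, map_zero]
  have h1 := inf_fixS_ne_bot hp hpF hy ⊤ (fun _ _ => trivial) hV
  rw [top_inf_eq] at h1
  rcases invariant_eq hr hrF hx hx1 he (fixS y) (fixS_invariant hxy.symm) with h | h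
  · exact h1 h
  · exact hy1 (fixS_eq_top_iff.1 h)

end Cfsg.Agent.H518.DghpFix
end

-- part: H518/DghpSep
section
prune_inst 0x7024442c000008001880000020000460000500000308000000040009018c4220010e0136900006003200c00008800001100000020000000a000000001800000001000030100c00000010000000000000000000000000000000000000000000000000000
set_option linter.all false
open scoped Cfsg.Agent.FastGrp

-- part: H518/DghpAlg
section
/-!
# Automorphisms of small commutative semisimple algebras over finite fields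

`centralizes_of_normalizes`: let `φ` be a faithful representation of a group `G` of dimension `d` over the field of
`q` elements, `N` an abelian subgroup of exponent `t` (a prime not dividing `q`), and `g` the order of `q` modulo `t`.
If `h ∈ G` has order a power of the prime `ℓ`, normalizes `N`, `ℓ ∤ g` and `d < ℓ g`, then `h` centralizes `N`.
-/

set_option autoImplicit false

namespace Cfsg.Agent.H518.DghpAlg

open Module

universe u v w

section Algebra

variable {F : Type u} [Field F] [Fintype F] {A : Type v} [CommRing A] [Algebra F A]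

/-- A vector with trivial annihilator. -/
theorem exists_vector [Finite A] {V : Type w} [AddCommGroup V] [Module A V]
    (hfaith : ∀ a : A, (∀ v : V, a • v = 0) → a = 0) {m : ℕ} (hm : 1 < m) (hA : ∀ a : A, a ^ m = a) :
    ∃ v : V, ∀ a : A, a • v = 0 → a = 0 := by
  classical
  obtain ⟨v, hv⟩ : ∃ v : V, ∀ w : V, Nat.card {a : A // a • v = 0} ≤ Nat.card {a : A // a • w = 0} := by
    obtain ⟨v, -, hv⟩ := WellFounded.has_min (InvImage.wf (fun v : V => Nat.card {a : A // a • v = 0}) wellFounded_lt)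
      Set.univ ⟨0, Set.mem_univ _⟩
    exact ⟨v, fun w => not_lt.1 (hv w (Set.mem_univ _))⟩
  refine ⟨v, fun a ha => ?_⟩
  by_contra ha0
  set e : A := a ^ (m - 1) with he
  have hea : e * a = a := by
    rw [he, ← pow_succ, Nat.sub_add_cancel hm.le, hA]
  have he0 : e ≠ 0 := fun h => ha0 (by rw [← hea, h, zero_mul])
  have hee : e * e = e := by
    have h1 : a ^ (m - 1) = a * a ^ (m - 2) := by
      rw [← pow_succ']
      congr 1
      omega
    calc e * e = e * (a * a ^ (m - 2)) := by rw [← h1]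
      _ = (e * a) * a ^ (m - 2) := by rw [mul_assoc]
      _ = e := by rw [hea, ← h1]
  have hev : e • v = 0 := by
    have h1 : a ^ (m - 1) = a ^ (m - 2) * a := by
      rw [← pow_succ]
      congr 1
      omega
    rw [he, h1, mul_smul, ha, smul_zero]
  obtain ⟨w, hw⟩ : ∃ w : V, e • w ≠ 0 := by
    by_contra hcon
    push Not at hcon
    exact he0 (hfaith e hcon)
  have hlt : Nat.card {b : A // b • (v + e • w) = 0} < Nat.card {b : A // b • v = 0} := by
    have hsub : ∀ b : A, b • (v + e • w) = 0 → b • v = 0 := by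
      intro b hb
      have h1 : e • (b • (v + e • w)) = 0 := by rw [hb, smul_zero]
      have h2 : b • (e • w) = 0 := by
        have h3 : e • (b • (v + e • w)) = b • (e • v) + b • ((e * e) • w) := by
          rw [smul_add, smul_add, smul_comm e b v, smul_comm e b (e • w), mul_smul]
        rw [h3, hev, smul_zero, zero_add, hee] at h1
        exact h1
      rw [smul_add, h2, add_zero] at hb
      exact hb
    have hss : {b : A | b • (v + e • w) = 0} ⊂ {b : A | b • v = 0} := by
      refine ⟨fun b hb => hsub b hb, fun hcon => ?_⟩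
      have h4 : e • (v + e • w) = 0 := hcon (show e • v = 0 from hev)
      rw [smul_add, hev, zero_add, ← mul_smul, hee] at h4
      exact hw h4
    have h5 := Set.ncard_lt_ncard hss (Set.toFinite _)
    exact h5
  exact absurd (hv (v + e • w)) (not_le.2 hlt)

omit [Fintype F] in
/-- The dimension of a faithfully acting commutative algebra with `a ^ m = a`. -/
theorem finrank_le [Finite A] {V : Type w} [AddCommGroup V] [Module F V] [Module A V] [IsScalarTower F A V]
    [FiniteDimensional F V] (hfaith : ∀ a : A, (∀ v : V, a • v = 0) → a = 0) {m : ℕ} (hm : 1 < m)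
    (hA : ∀ a : A, a ^ m = a) : finrank F A ≤ finrank F V := by
  obtain ⟨v, hv⟩ := exists_vector hfaith hm hA
  let f : A →ₗ[F] V :=
    { toFun := fun a => a • v
      map_add' := fun a b => add_smul a b v
      map_smul' := fun c a => by simp [smul_assoc] }
  refine LinearMap.finrank_le_finrank_of_injective (f := f) ?_
  rw [← LinearMap.ker_eq_bot, LinearMap.ker_eq_bot']
  exact fun a ha => hv a ha

omit [Fintype F] in
/-- In a finite algebra with `a ^ m = a`, the algebra homomorphisms to the algebraic closure separate points. -/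
theorem eq_zero_of_forall_algHom [Finite A] {m : ℕ} (hm : 1 < m) (hA : ∀ a : A, a ^ m = a) (a : A)
    (ha : ∀ χ : A →ₐ[F] AlgebraicClosure F, χ a = 0) : a = 0 := by
  by_contra ha0
  have hnil : a ∉ nilradical A := by
    intro h
    rw [mem_nilradical] at h
    obtain ⟨k, hk⟩ := h
    have h1 : ∀ j : ℕ, a ^ m ^ j = a := by
      intro j
      induction j with
      | zero => rw [pow_zero, pow_one]
      | succ j ih => rw [pow_succ, pow_mul, ih, hA]
    have h2 : a ^ m ^ k = 0 := by
      have h3 : k ≤ m ^ k := (Nat.lt_pow_self hm).le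
      rw [← Nat.sub_add_cancel h3, pow_add, hk, mul_zero]
    exact ha0 (by rw [← h1 k, h2])
  rw [nilradical_eq_sInf, Submodule.mem_sInf] at hnil
  push Not at hnil
  obtain ⟨P, hP, haP⟩ : ∃ P : Ideal A, P.IsPrime ∧ a ∉ P := by
    obtain ⟨P, hP, haP⟩ := hnil
    exact ⟨P, hP, haP⟩
  have : P.IsPrime := hP
  have : Finite (A ⧸ P) := Quotient.finite _
  have : P.IsMaximal := by
    rw [Ideal.Quotient.maximal_ideal_iff_isField_quotient]
    exact Finite.isField_of_domain _
  let _ : Field (A ⧸ P) := Ideal.Quotient.field P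
  have : FiniteDimensional F (A ⧸ P) := Module.Finite.of_finite
  have : Algebra.IsAlgebraic F (A ⧸ P) := Algebra.IsAlgebraic.of_finite F (A ⧸ P)
  let χ : A →ₐ[F] AlgebraicClosure F := (IsAlgClosed.lift : (A ⧸ P) →ₐ[F] AlgebraicClosure F).comp
    (Ideal.Quotient.mkₐ F P)
  have h1 : χ a = 0 := ha χ
  have h2 : (Ideal.Quotient.mkₐ F P) a = 0 := by
    have h3 : (IsAlgClosed.lift : (A ⧸ P) →ₐ[F] AlgebraicClosure F) ((Ideal.Quotient.mkₐ F P) a) = 0 := h1
    exact (map_eq_zero _).1 h3
  exact haP (Ideal.Quotient.eq_zero_iff_mem.1 h2)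

/-- The key counting lemma. -/
theorem algHom_eq_id [Finite A] (S : Set A) (hS : Algebra.adjoin F S = ⊤) {t : ℕ} (ht : t.Prime)
    (hSt : ∀ s ∈ S, s ^ t = 1) (σ : A →ₐ[F] A) (hσ : ∀ s ∈ S, σ s ∈ S) {ℓ k : ℕ} (hℓ : ℓ.Prime)
    (hk : ∀ a, (⇑σ)^[ℓ ^ k] a = a) (hℓg : ¬ ℓ ∣ orderOf ((Fintype.card F : ℕ) : ZMod t))
    (hAg : ∀ a : A, a ^ Fintype.card F ^ orderOf ((Fintype.card F : ℕ) : ZMod t) = a)
    (hd : finrank F A < ℓ * orderOf ((Fintype.card F : ℕ) : ZMod t)) : ∀ a, σ a = a := by
  classical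
  set q : ℕ := Fintype.card F with hq
  set g : ℕ := orderOf (q : ZMod t) with hg
  have : Fact t.Prime := ⟨ht⟩
  have hq2 : 1 < q := Fintype.one_lt_card
  have hgpos : 0 < g := by
    rcases Nat.eq_zero_or_pos g with h | h
    · rw [h, mul_zero] at hd
      exact absurd hd (Nat.not_lt_zero _)
    · exact h
  -- algebra homomorphisms to the algebraic closure
  set K := AlgebraicClosure F
  set P : (A →ₐ[F] K) → (A →ₐ[F] K) := fun χ => χ.comp (FiniteField.frobeniusAlgHom F A) with hP
  set T : (A →ₐ[F] K) → (A →ₐ[F] K) := fun χ => χ.comp σ with hT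
  have hPT : Function.Commute P T := by
    intro χ
    ext a
    simp [hP, hT]
  have hPit : ∀ (m : ℕ) (χ : A →ₐ[F] K) (a : A), P^[m] χ a = χ a ^ q ^ m := by
    intro m
    induction m with
    | zero => intro χ a; simp
    | succ m ih =>
      intro χ a
      rw [Function.iterate_succ_apply, ih]
      simp only [hP, AlgHom.comp_apply, FiniteField.frobeniusAlgHom_apply, map_pow]
      rw [← pow_mul, pow_succ', hq]
  have hTit : ∀ (m : ℕ) (χ : A →ₐ[F] K) (a : A), T^[m] χ a = χ ((⇑σ)^[m] a) := by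
    intro m
    induction m with
    | zero => intro χ a; simp
    | succ m ih =>
      intro χ a
      rw [Function.iterate_succ_apply, ih]
      simp only [hT, AlgHom.comp_apply]
      rw [Function.iterate_succ_apply']
  have key : ∀ χ : A →ₐ[F] K, T χ = χ := by
    intro χ
    by_contra hχ
    obtain ⟨s, hs, hs1⟩ : ∃ s ∈ S, χ s ≠ 1 := by
      by_contra hcon
      push Not at hcon
      refine hχ (AlgHom.ext_of_adjoin_eq_top hS fun s hs => ?_)
      simp only [hT, AlgHom.comp_apply]
      rw [hcon s hs, hcon _ (hσ s hs)]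
    have hord : orderOf (χ s) = t := by
      refine orderOf_eq_prime ?_ hs1
      rw [← map_pow, hSt s hs, map_one]
    have hs0 : χ s ≠ 0 := by
      intro h
      have h1 : χ s ^ t = 1 := by rw [← map_pow, hSt s hs, map_one]
      rw [h, zero_pow ht.ne_zero] at h1
      exact zero_ne_one h1
    have hper : ∀ m : ℕ, P^[m] χ = χ → g ∣ m := by
      intro m hm
      have h1 : χ s ^ q ^ m = χ s := by rw [← hPit, hm]
      have h2 : χ s ^ (q ^ m - 1) = 1 := by
        have h3 : χ s ^ (q ^ m - 1) * χ s = 1 * χ s := by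
          rw [← pow_succ, Nat.sub_add_cancel (Nat.one_le_pow _ _ (by omega)), h1, one_mul]
        exact mul_right_cancel₀ hs0 h3
      have h3 : t ∣ q ^ m - 1 := by
        rw [← hord]
        exact orderOf_dvd_of_pow_eq_one h2
      exact (Lib.Zsigmondy.dvd_pow_sub_one_iff (by omega) m).1 h3
    have hPg : P^[g] χ = χ := by
      ext a
      rw [hPit, ← map_pow, hAg]
    have hP1 : Function.minimalPeriod P χ = g := by
      refine Nat.dvd_antisymm (Function.IsPeriodicPt.minimalPeriod_dvd hPg) ?_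
      exact hper _ (Function.iterate_minimalPeriod)
    have hT1 : Function.minimalPeriod T χ ∣ ℓ ^ k := by
      refine Function.IsPeriodicPt.minimalPeriod_dvd ?_
      show T^[ℓ ^ k] χ = χ
      ext a
      rw [hTit, hk]
    obtain ⟨j, -, hj⟩ := (Nat.dvd_prime_pow hℓ).1 hT1
    have hj0 : j ≠ 0 := by
      rintro rfl
      rw [pow_zero] at hj
      have h1 := Function.iterate_minimalPeriod (f := T) (x := χ)
      rw [hj, Function.iterate_one] at h1
      exact hχ h1
    have hcop : Nat.Coprime (Function.minimalPeriod P χ) (Function.minimalPeriod T χ) := by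
      rw [hP1, hj]
      exact Nat.Coprime.pow_right _ ((Nat.Prime.coprime_iff_not_dvd hℓ).2 hℓg).symm
    have hmul := hPT.minimalPeriod_of_comp_eq_mul_of_coprime hcop
    have : Fintype (A →ₐ[F] K) := Fintype.ofFinite _
    have hle : Function.minimalPeriod (P ∘ T) χ ≤ Fintype.card (A →ₐ[F] K) := Function.minimalPeriod_le_card
    have hle2 : Fintype.card (A →ₐ[F] K) ≤ finrank F A := by
      rw [← Nat.card_eq_fintype_card]
      exact card_algHom_le_finrank F A K
    have hle3 : ℓ ≤ ℓ ^ j := Nat.le_self_pow hj0 ℓ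
    have hle4 : ℓ * g ≤ g * ℓ ^ j := by
      rw [mul_comm]
      exact Nat.mul_le_mul_left g hle3
    rw [hmul, hP1, hj] at hle
    omega
  have hm : 1 < q ^ g := Nat.one_lt_pow hgpos.ne' hq2
  intro a
  have h1 := eq_zero_of_forall_algHom (F := F) hm hAg (σ a - a) (fun χ => by
    have h2 := congrArg (fun f => f a) (key χ)
    simp only [hT, AlgHom.comp_apply] at h2
    rw [map_sub, h2, sub_self])
  exact sub_eq_zero.1 h1

end Algebra

section Rep

variable {F : Type u} [Field F] {V : Type v} [AddCommGroup V] [Module F V] [FiniteDimensional F V]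
  {G : Type w} [Group G]

/-- A prime `t ≠ 0` in a finite field does not divide its cardinality. -/
theorem not_dvd_card [Fintype F] {t : ℕ} (ht : t.Prime) (htF : (t : F) ≠ 0) : ¬ t ∣ Fintype.card F := by
  intro h
  obtain ⟨n, hp, hn⟩ := FiniteField.card F (ringChar F)
  rw [hn] at h
  have h1 := (Nat.prime_dvd_prime_iff_eq ht hp).1 (ht.dvd_of_dvd_pow h)
  exact htF (by rw [h1]; exact CharP.cast_eq_zero F (ringChar F))

/-- The order of `|F|` modulo a prime `t ≠ 0` in `F` is positive. -/
theorem orderOf_pos_of_ne [Fintype F] {t : ℕ} (ht : t.Prime) (htF : (t : F) ≠ 0) :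
    0 < orderOf ((Fintype.card F : ℕ) : ZMod t) := by
  have : Fact t.Prime := ⟨ht⟩
  have htq : ((Fintype.card F : ℕ) : ZMod t) ≠ 0 := by
    intro h
    rw [ZMod.natCast_eq_zero_iff] at h
    exact not_dvd_card ht htF h
  rw [orderOf_pos_iff, isOfFinOrder_iff_pow_eq_one]
  exact ⟨t - 1, Nat.sub_pos_of_lt ht.one_lt, ZMod.pow_card_sub_one_eq_one htq⟩

/-- **Lemma b.** -/
theorem centralizes_of_normalizes [Fintype F] (φ : G →* (V →ₗ[F] V)) (hφ : Function.Injective φ) (N : Subgroup G)
    {t : ℕ} (ht : t.Prime) (htF : (t : F) ≠ 0) (hNc : ∀ a ∈ N, ∀ b ∈ N, a * b = b * a)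
    (hNt : ∀ a ∈ N, a ^ t = 1) (h : G) (hN : ∀ n ∈ N, h * n * h⁻¹ ∈ N) {ℓ k : ℕ} (hℓ : ℓ.Prime)
    (hh : h ^ ℓ ^ k = 1) (hℓg : ¬ ℓ ∣ orderOf ((Fintype.card F : ℕ) : ZMod t))
    (hd : finrank F V < ℓ * orderOf ((Fintype.card F : ℕ) : ZMod t)) : ∀ n ∈ N, h * n * h⁻¹ = n := by
  classical
  set q : ℕ := Fintype.card F with hq
  set g : ℕ := orderOf (q : ZMod t) with hg
  have hgpos : 0 < g := orderOf_pos_of_ne ht htF
  have hq2 : 1 < q := Fintype.one_lt_card
  have : Finite F := Finite.of_fintype F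
  set S : Set (Module.End F V) := φ '' (N : Set G) with hS
  have hcomm : ∀ a ∈ S, ∀ b ∈ S, a * b = b * a := by
    rintro _ ⟨a, ha, rfl⟩ _ ⟨b, hb, rfl⟩
    rw [← map_mul, hNc a ha b hb, map_mul]
  let _ : CommRing (Algebra.adjoin F S) := Algebra.adjoinCommRingOfComm F hcomm
  -- conjugation by `φ h`
  let c : Module.End F V →ₐ[F] Module.End F V :=
    { toFun := fun a => φ h * a * φ h⁻¹
      map_one' := by rw [mul_one, ← map_mul, mul_inv_cancel, map_one]
      map_mul' := fun a b => by
        have h1 : φ h⁻¹ * φ h = 1 := by rw [← map_mul, inv_mul_cancel, map_one]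
        calc φ h * (a * b) * φ h⁻¹ = φ h * a * 1 * b * φ h⁻¹ := by simp only [mul_assoc, one_mul]
          _ = φ h * a * (φ h⁻¹ * φ h) * b * φ h⁻¹ := by rw [h1]
          _ = φ h * a * φ h⁻¹ * (φ h * b * φ h⁻¹) := by simp only [mul_assoc]
      map_zero' := by rw [mul_zero, zero_mul]
      map_add' := fun a b => by rw [mul_add, add_mul]
      commutes' := fun r => by
        rw [← Algebra.commutes r (φ h), mul_assoc, ← map_mul, mul_inv_cancel, map_one, mul_one] }
  have hcS : ∀ n ∈ N, c (φ n) = φ (h * n * h⁻¹) := by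
    intro n _
    show φ h * φ n * φ h⁻¹ = _
    rw [map_mul, map_mul]
  have hcA : ∀ a ∈ Algebra.adjoin F S, c a ∈ Algebra.adjoin F S := by
    intro a ha
    have h1 : (Algebra.adjoin F S).map c ≤ Algebra.adjoin F S := by
      rw [AlgHom.map_adjoin]
      refine Algebra.adjoin_le ?_
      rintro _ ⟨_, ⟨n, hn, rfl⟩, rfl⟩
      rw [hcS n hn]
      exact Algebra.subset_adjoin ⟨_, hN n hn, rfl⟩
    exact h1 ⟨a, ha, rfl⟩
  let σ : Algebra.adjoin F S →ₐ[F] Algebra.adjoin F S :=
    (c.comp (Algebra.adjoin F S).val).codRestrict (Algebra.adjoin F S) (fun a => hcA a a.2)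
  have hσ : ∀ a : Algebra.adjoin F S, ((σ a : Algebra.adjoin F S) : Module.End F V) = φ h * a * φ h⁻¹ := fun a => rfl
  have hσit : ∀ (m : ℕ) (a : Algebra.adjoin F S),
      (((⇑σ)^[m] a : Algebra.adjoin F S) : Module.End F V) = φ (h ^ m) * a * φ (h ^ m)⁻¹ := by
    intro m
    induction m with
    | zero => intro a; simp
    | succ m ih =>
      intro a
      rw [Function.iterate_succ_apply', hσ, ih]
      have h1 : (h ^ (m + 1))⁻¹ = (h ^ m)⁻¹ * h⁻¹ := by rw [pow_succ', mul_inv_rev]
      rw [h1, pow_succ' h m, map_mul, map_mul]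
      simp only [mul_assoc]
  -- the generating set
  let S' : Set (Algebra.adjoin F S) := {a | (a : Module.End F V) ∈ S}
  have hS'top : Algebra.adjoin F S' = ⊤ := by
    have h1 := Algebra.adjoin_adjoin_coe_preimage (R := F) (s := S)
    exact h1
  have hS't : ∀ s ∈ S', s ^ t = 1 := by
    rintro ⟨s, hsA⟩ hs
    obtain ⟨n, hn, hns⟩ : s ∈ φ '' (N : Set G) := hs
    apply Subtype.ext
    rw [SubmonoidClass.coe_pow]
    show s ^ t = 1
    rw [← hns, ← map_pow, hNt n hn, map_one]
  have hS'σ : ∀ s ∈ S', σ s ∈ S' := by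
    rintro ⟨s, hsA⟩ hs
    obtain ⟨n, hn, hns⟩ : s ∈ φ '' (N : Set G) := hs
    show ((σ ⟨s, hsA⟩ : Algebra.adjoin F S) : Module.End F V) ∈ S
    rw [hσ]
    show φ h * s * φ h⁻¹ ∈ S
    rw [← hns, ← map_mul, ← map_mul]
    exact ⟨_, hN n hn, rfl⟩
  have : Module.Finite F (Algebra.adjoin F S) := inferInstance
  have : Finite (Algebra.adjoin F S) := Module.finite_of_finite F
  -- the Frobenius
  have hAg : ∀ a : Algebra.adjoin F S, a ^ q ^ g = a := by
    intro a
    have h1 : (FiniteField.frobeniusAlgHom F (Algebra.adjoin F S)) ^ g = AlgHom.id F (Algebra.adjoin F S) := by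
      refine AlgHom.ext_of_adjoin_eq_top hS'top fun s hs => ?_
      rw [AlgHom.coe_pow, FiniteField.coe_frobeniusAlgHom, pow_iterate]
      show s ^ q ^ g = s
      have h2 : t ∣ q ^ g - 1 := (Lib.Zsigmondy.dvd_pow_sub_one_iff (by omega) g).2 dvd_rfl
      obtain ⟨m, hm⟩ := h2
      have h3 : q ^ g = t * m + 1 := by
        have := Nat.one_le_pow g q (by omega)
        omega
      rw [h3, pow_succ, pow_mul, hS't s hs, one_pow, one_mul]
    have h2 := congrArg (fun f => f a) h1
    rw [AlgHom.coe_pow, FiniteField.coe_frobeniusAlgHom, pow_iterate] at h2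
    exact h2
  have hm : 1 < q ^ g := Nat.one_lt_pow hgpos.ne' hq2
  have hfr : finrank F (Algebra.adjoin F S) ≤ finrank F V :=
    finrank_le (V := V) (fun a ha => Subtype.ext (LinearMap.ext fun v => ha v)) hm hAg
  have hmain := algHom_eq_id (F := F) (A := Algebra.adjoin F S) S' hS'top ht hS't σ hS'σ (ℓ := ℓ) (k := k) hℓ
    (fun a => Subtype.ext (by rw [hσit, hh]; simp)) hℓg hAg (lt_of_le_of_lt hfr hd)
  intro n hn
  apply hφ
  have h1 := congrArg (Subtype.val) (hmain ⟨φ n, Algebra.subset_adjoin ⟨n, hn, rfl⟩⟩)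
  rw [hσ] at h1
  rw [map_mul, map_mul]
  exact h1

end Rep

end Cfsg.Agent.H518.DghpAlg
end

-- part: H518/DghpSep
section
/-!
# Separation of two primes in linear groups

`sep_linear`: let `G` be a finite group with a faithful representation of dimension `d` over the field of `q` elements,
`r ≠ s` primes not dividing `q`, `e` and `f` the orders of `q` modulo `r` and `s`. If `2 e > d`, `e + f > d`, `f ∤ e`,
`s ∤ e`, `r ∤ f` and `r f > d`, then no solvable subgroup of `G` has order divisible by `r s`.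
-/

set_option autoImplicit false

namespace Cfsg.Agent.H518.DghpSep

open Module Cfsg.Agent.H518.Dghp Cfsg.Agent.H518.DghpFix Cfsg.Agent.H518.DghpAlg

universe u v w

/-- Elements of order `ℓ` normalizing an abelian subgroup of exponent dividing `t` centralize it. -/
def NC (G : Type*) [Group G] (t ℓ : ℕ) : Prop :=
  ∀ N : Subgroup G, (∀ a ∈ N, ∀ b ∈ N, a * b = b * a) → (∀ a ∈ N, a ^ t = 1) → ∀ h : G, orderOf h = ℓ →
    (∀ n ∈ N, h * n * h⁻¹ ∈ N) → ∀ n ∈ N, h * n * h⁻¹ = n

/-- A nontrivial finite solvable group has a nontrivial normal abelian subgroup of prime exponent. -/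
theorem exists_normal_elementary {K : Type u} [Group K] [Finite K] [Group.IsSolvable K] [Nontrivial K] :
    ∃ t : ℕ, t.Prime ∧ t ∣ Nat.card K ∧ ∃ N : Subgroup K, N.Normal ∧ N ≠ ⊥ ∧ (∀ a ∈ N, ∀ b ∈ N, a * b = b * a) ∧
      ∀ a ∈ N, a ^ t = 1 := by
  classical
  -- the last nontrivial term of the derived series
  obtain ⟨n, hn⟩ := (Group.isSolvable_def K).1 inferInstance
  have hex : ∃ n, derivedSeries K n = ⊥ := ⟨n, hn⟩
  obtain ⟨m, hm, hm'⟩ : ∃ m, derivedSeries K m ≠ ⊥ ∧ derivedSeries K (m + 1) = ⊥ := by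
    have h0 : Nat.find hex ≠ 0 := by
      intro h
      have h1 := Nat.find_spec hex
      rw [h, derivedSeries_zero] at h1
      exact absurd h1 top_ne_bot
    obtain ⟨m, hm⟩ := Nat.exists_eq_succ_of_ne_zero h0
    exact ⟨m, Nat.find_min hex (by omega), by rw [← Nat.succ_eq_add_one, ← hm]; exact Nat.find_spec hex⟩
  set D := derivedSeries K m with hD
  have hDn : D.Normal := derivedSeries_normal K m
  have hDc : ∀ a ∈ D, ∀ b ∈ D, a * b = b * a := by
    intro a ha b hb
    rw [derivedSeries_succ] at hm'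
    have h1 := (Subgroup.commutator_eq_bot_iff_le_centralizer.1 hm') ha
    exact ((Subgroup.mem_centralizer_iff.1 h1) b hb).symm
  have hcard : Nat.card D ≠ 1 := fun h => hm (Subgroup.card_eq_one.1 h)
  obtain ⟨t, ht, htD⟩ := Nat.exists_prime_and_dvd hcard
  have : Fact t.Prime := ⟨ht⟩
  obtain ⟨x, hx⟩ := exists_prime_orderOf_dvd_card' t htD
  refine ⟨t, ht, htD.trans (Subgroup.card_subgroup_dvd_card D),
    { carrier := {a | a ∈ D ∧ a ^ t = 1}
      one_mem' := ⟨D.one_mem, one_pow t⟩
      mul_mem' := fun {a b} ha hb => ⟨D.mul_mem ha.1 hb.1, by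
        rw [(show Commute a b from hDc a ha.1 b hb.1).mul_pow, ha.2, hb.2, one_mul]⟩
      inv_mem' := fun {a} ha => ⟨D.inv_mem ha.1, by rw [inv_pow, ha.2, inv_one]⟩ }, ?_, ?_, ?_, ?_⟩
  · constructor
    rintro a ⟨ha, ha'⟩ g
    refine ⟨hDn.conj_mem a ha g, ?_⟩
    rw [conj_pow, ha', mul_one, mul_inv_cancel]
  · intro hbot
    have h1 : (x : K) ∈ (⊥ : Subgroup K) := by
      rw [← hbot]
      refine ⟨x.2, ?_⟩
      rw [← hx, ← Subgroup.coe_pow, pow_orderOf_eq_one, Subgroup.coe_one]
    rw [Subgroup.mem_bot] at h1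
    have h2 : x = 1 := Subtype.ext h1
    rw [h2, orderOf_one] at hx
    exact ht.one_lt.ne hx
  · rintro a ⟨ha, -⟩ b ⟨hb, -⟩
    exact hDc a ha b hb
  · rintro a ⟨-, ha⟩
    exact ha

/-- The group theoretic criterion for separation. -/
theorem sep_of_nc {G : Type u} [Group G] [Finite G] {r s : ℕ} (hr : r.Prime) (hs : s.Prime) (h1 : NC G r s)
    (h2 : NC G s r) (h3 : ∀ x y : G, orderOf x = r → orderOf y = s → x * y = y * x → False) : Sep G r s := by
  refine Sep.of_hall hr hs fun K hK hrs hrK hsK => ?_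
  have : Fact r.Prime := ⟨hr⟩
  have : Fact s.Prime := ⟨hs⟩
  obtain ⟨x, hx⟩ := exists_prime_orderOf_dvd_card' r hrK
  obtain ⟨y, hy⟩ := exists_prime_orderOf_dvd_card' s hsK
  have hx' : orderOf (x : G) = r := by rw [Subgroup.orderOf_coe, hx]
  have hy' : orderOf (y : G) = s := by rw [Subgroup.orderOf_coe, hy]
  have : Nontrivial K := by
    refine ⟨x, 1, ?_⟩
    rintro rfl
    rw [orderOf_one] at hx
    exact hr.one_lt.ne hx
  obtain ⟨t, ht, htK, N, hNn, hNb, hNc, hNt⟩ := exists_normal_elementary (K := K)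
  -- the image of `N` in `G`
  have hc : ∀ a ∈ N.map K.subtype, ∀ b ∈ N.map K.subtype, a * b = b * a := by
    rintro _ ⟨a, ha, rfl⟩ _ ⟨b, hb, rfl⟩
    rw [← map_mul, hNc a ha b hb, map_mul]
  have ht' : ∀ a ∈ N.map K.subtype, a ^ t = 1 := by
    rintro _ ⟨a, ha, rfl⟩
    rw [← map_pow, hNt a ha, map_one]
  have hconj : ∀ k : K, ∀ n ∈ N.map K.subtype, (k : G) * n * (k : G)⁻¹ ∈ N.map K.subtype := by
    rintro k _ ⟨n, hn, rfl⟩
    exact ⟨k * n * k⁻¹, hNn.conj_mem n hn k, rfl⟩
  obtain ⟨n, hnN, hn1⟩ : ∃ n ∈ N, n ≠ 1 := by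
    by_contra hcon
    push Not at hcon
    exact hNb ((Subgroup.eq_bot_iff_forall N).2 hcon)
  have hn : orderOf (n : G) = t := by
    rw [Subgroup.orderOf_coe]
    have : Fact t.Prime := ⟨ht⟩
    exact orderOf_eq_prime (hNt n hnN) hn1
  have hnN' : (n : G) ∈ N.map K.subtype := ⟨n, hnN, rfl⟩
  rcases hrs t ht htK with rfl | rfl
  · have h4 := h1 (N.map K.subtype) hc ht' y hy' (hconj y) n hnN'
    exact h3 n y hn hy' (by rw [← mul_inv_eq_iff_eq_mul.1 h4])
  · have h4 := h2 (N.map K.subtype) hc ht' x hx' (hconj x) n hnN'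
    exact h3 x n hx' hn (by rw [← mul_inv_eq_iff_eq_mul.1 h4])

section Rep

variable {F : Type u} [Field F] [Fintype F] {V : Type v} [AddCommGroup V] [Module F V] [FiniteDimensional F V]
  {G : Type w} [Group G]

theorem cast_ne_zero_of_not_dvd {t : ℕ} (ht : t.Prime) (htF : ¬ t ∣ Fintype.card F) : (t : F) ≠ 0 := by
  intro h
  apply htF
  obtain ⟨n, hp, hn⟩ := FiniteField.card F (ringChar F)
  have h1 : ringChar F ∣ t := (ringChar.spec F t).1 h
  have h2 := (Nat.prime_dvd_prime_iff_eq hp ht).1 h1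
  rw [hn, ← h2]
  exact dvd_pow_self _ n.ne_zero

/-- Lemma b as `NC`. -/
theorem nc_of_rep (φ : G →* (V →ₗ[F] V)) (hφ : Function.Injective φ) {t ℓ : ℕ} (ht : t.Prime) (hℓ : ℓ.Prime)
    (htF : ¬ t ∣ Fintype.card F) (hℓg : ¬ ℓ ∣ orderOf ((Fintype.card F : ℕ) : ZMod t))
    (hd : finrank F V < ℓ * orderOf ((Fintype.card F : ℕ) : ZMod t)) : NC G t ℓ := by
  intro N hNc hNt h hh hN
  refine centralizes_of_normalizes φ hφ N ht (cast_ne_zero_of_not_dvd ht htF) hNc hNt h hN (k := 1) hℓ ?_ hℓg hd
  rw [pow_one, ← hh, pow_orderOf_eq_one]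

/-- Subgroups of exponent `p` normalized by an irreducible element are trivial. -/
theorem nc_char (φ : G →* (V →ₗ[F] V)) (hφ : Function.Injective φ) {p r : ℕ} (hp : p.Prime) (hr : r.Prime)
    (hpF : p ∣ Fintype.card F) (hrF : ¬ r ∣ Fintype.card F)
    (he : orderOf ((Fintype.card F : ℕ) : ZMod r) = finrank F V) : NC G p r := by
  intro N hNc hNp x hx hN n hn
  have : Finite F := Finite.of_fintype F
  have : Finite V := Module.finite_of_finite F
  have hpf : Fact p.Prime := ⟨hp⟩
  have hxr : φ x ^ r ^ 1 = 1 := by rw [pow_one, ← map_pow, ← hx, pow_orderOf_eq_one, map_one]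
  have hx1 : φ x ≠ 1 := by
    intro h
    have h1 : x = 1 := hφ (by rw [h, map_one])
    rw [h1, orderOf_one] at hx
    exact hr.one_lt.ne hx
  -- `N` acts on `V`
  let W : Submodule F V :=
    { carrier := {v | ∀ m ∈ N, φ m v = v}
      zero_mem' := fun m _ => map_zero _
      add_mem' := fun {a b} ha hb m hm => by rw [map_add, ha m hm, hb m hm]
      smul_mem' := fun c a ha m hm => by rw [map_smul, ha m hm] }
  have hWx : ∀ v ∈ W, φ x v ∈ W := by
    intro v hv m hm
    have h1 : m * x = x * (x⁻¹ * m * x) := by group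
    have h2 : x⁻¹ * m * x ∈ N := by
      have hxp : ∀ j : ℕ, ∀ m ∈ N, x ^ j * m * (x ^ j)⁻¹ ∈ N := by
        intro j
        induction j with
        | zero => intro m hm; simpa using hm
        | succ j ih =>
          intro m hm
          have h3 := hN _ (ih m hm)
          have h4 : x * (x ^ j * m * (x ^ j)⁻¹) * x⁻¹ = x ^ (j + 1) * m * (x ^ (j + 1))⁻¹ := by
            rw [pow_succ' x j, mul_inv_rev]
            group
          rwa [h4] at h3
      have h3 := hxp (r - 1) m hm
      have h4 : x ^ (r - 1) = x⁻¹ := by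
        rw [eq_inv_iff_mul_eq_one, ← pow_succ, Nat.sub_add_cancel hr.one_lt.le, ← hx, pow_orderOf_eq_one]
      rwa [h4, inv_inv] at h3
    have h3 : φ m (φ x v) = φ (m * x) v := by rw [map_mul]; rfl
    rw [h3, h1, map_mul, Module.End.mul_apply, hv _ h2]
  have hV : Nontrivial V := by
    by_contra hcon
    rw [not_nontrivial_iff_subsingleton] at hcon
    exact hx1 (LinearMap.ext fun v => Subsingleton.elim _ _)
  have hW0 : W ≠ ⊥ := by
    intro hbot
    let _ : MulAction N V :=
      { smul := fun m v => φ m v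
        one_smul := fun v => by
          show φ ((1 : N) : G) v = v
          rw [Subgroup.coe_one, map_one]
          rfl
        mul_smul := fun a b v => by
          show φ ((a * b : N) : G) v = φ a (φ b v)
          rw [Subgroup.coe_mul, map_mul]
          rfl }
    have hPN : IsPGroup p N := by
      intro g
      exact ⟨1, by rw [pow_one]; exact Subtype.ext (hNp g g.2)⟩
    have hdvd : p ∣ Nat.card V := by
      rw [Module.natCard_eq_pow_finrank (K := F) (V := V), Nat.card_eq_fintype_card]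
      exact dvd_pow hpF (finrank_pos (R := F) (M := V)).ne'
    have h0 : (0 : V) ∈ MulAction.fixedPoints N V := fun m => map_zero (φ m)
    obtain ⟨b, hb, hb0⟩ := hPN.exists_fixed_point_of_prime_dvd_card_of_fixed_point V hdvd h0
    have h1 : b ∈ W := fun m hm => hb ⟨m, hm⟩
    rw [hbot, Submodule.mem_bot] at h1
    exact hb0 h1.symm
  have hWtop : W = ⊤ := (invariant_eq hr hrF hxr hx1 he W hWx).resolve_left hW0
  have hN1 : ∀ m ∈ N, m = 1 := by
    intro m hm
    apply hφ
    rw [map_one]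
    ext v
    have h1 : v ∈ W := by rw [hWtop]; trivial
    exact h1 m hm
  rw [hN1 n hn, mul_one, mul_inv_cancel]

theorem pow_eq_one_of_orderOf (φ : G →* (V →ₗ[F] V)) {x : G} {r : ℕ} (hx : orderOf x = r) : φ x ^ r = 1 := by
  rw [← map_pow, ← hx, pow_orderOf_eq_one, map_one]

theorem ne_one_of_orderOf (φ : G →* (V →ₗ[F] V)) (hφ : Function.Injective φ) {x : G} {r : ℕ} (hr : r.Prime)
    (hx : orderOf x = r) : φ x ≠ 1 := by
  intro h
  have h1 : x = 1 := hφ (by rw [h, map_one])
  rw [h1, orderOf_one] at hx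
  exact hr.one_lt.ne hx

/-- **Separation of two primes in a linear group.** -/
theorem sep_linear [Finite G] (φ : G →* (V →ₗ[F] V)) (hφ : Function.Injective φ) {r s : ℕ} (hr : r.Prime)
    (hs : s.Prime) (hrF : ¬ r ∣ Fintype.card F) (hsF : ¬ s ∣ Fintype.card F) {e f d : ℕ}
    (he : orderOf ((Fintype.card F : ℕ) : ZMod r) = e) (hf : orderOf ((Fintype.card F : ℕ) : ZMod s) = f)
    (hd : finrank F V = d) (h2e : d < 2 * e) (hef : d < e + f) (hfe : ¬ f ∣ e) (hse : ¬ s ∣ e) (hrf : ¬ r ∣ f)
    (hrd : d < r * f) : Sep G r s := by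
  refine sep_of_nc hr hs ?_ ?_ ?_
  · refine nc_of_rep φ hφ hr hs hrF (by rwa [he]) ?_
    rw [he, hd]
    exact lt_of_lt_of_le h2e (Nat.mul_le_mul_right e hs.two_le)
  · refine nc_of_rep φ hφ hs hr hsF (by rwa [hf]) ?_
    rw [hf, hd]
    exact hrd
  · intro x y hx hy hxy
    refine no_commuting hr hs hrF hsF (pow_eq_one_of_orderOf φ hx) (ne_one_of_orderOf φ hφ hr hx)
      (pow_eq_one_of_orderOf φ hy) (ne_one_of_orderOf φ hφ hs hy) (by rw [← map_mul, hxy, map_mul]) ?_ ?_ ?_
    · rw [hd, he]; exact h2e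
    · rw [hd, he, hf]; exact hef
    · rw [he, hf]; exact hfe

/-- Separation of an irreducible prime and the characteristic. -/
theorem sep_char [Finite G] (φ : G →* (V →ₗ[F] V)) (hφ : Function.Injective φ) {r p : ℕ} (hr : r.Prime)
    (hp : p.Prime) (hrF : ¬ r ∣ Fintype.card F) (hpF : p ∣ Fintype.card F) {d : ℕ}
    (he : orderOf ((Fintype.card F : ℕ) : ZMod r) = d) (hd : finrank F V = d) (hd0 : 0 < d) (hpd : ¬ p ∣ d) :
    Sep G r p := by
  refine sep_of_nc hr hp ?_ ?_ ?_
  · refine nc_of_rep φ hφ hr hp hrF (by rwa [he]) ?_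
    rw [he, hd]
    have := Nat.mul_le_mul_right d hp.two_le
    omega
  · exact nc_char φ hφ hp hr hpF hrF (by rw [he, hd])
  · intro x y hx hy hxy
    exact no_commuting_char (k := 1) (l := 1) hr hp hrF hpF (by rw [pow_one]; exact pow_eq_one_of_orderOf φ hx)
      (ne_one_of_orderOf φ hφ hr hx) (by rw [pow_one]; exact pow_eq_one_of_orderOf φ hy)
      (ne_one_of_orderOf φ hφ hp hy) (by rw [← map_mul, hxy, map_mul]) (by rw [he, hd])

/-- Separation of an irreducible prime and `2`, in odd characteristic, when `-1` is not an involution of `G`. -/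
theorem sep_two [Finite G] (φ : G →* (V →ₗ[F] V)) (hφ : Function.Injective φ) {r : ℕ} (hr : r.Prime)
    (hrF : ¬ r ∣ Fintype.card F) (h2F : ¬ 2 ∣ Fintype.card F) {d : ℕ}
    (he : orderOf ((Fintype.card F : ℕ) : ZMod r) = d) (hd : finrank F V = d) (hd0 : ¬ 2 ∣ d)
    (hneg : ∀ y : G, φ y ≠ -1) : Sep G r 2 := by
  have hd1 : 0 < d := by
    rcases Nat.eq_zero_or_pos d with h | h
    · rw [h] at hd0
      exact absurd (dvd_zero 2) hd0
    · exact h
  have hrd : d < r := by
    have h1 := Lib.Zsigmondy.orderOf_dvd_pred hr hrF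
    rw [he] at h1
    have h2 := Nat.le_of_dvd (Nat.sub_pos_of_lt hr.one_lt) h1
    have h3 := hr.one_lt
    omega
  have hord2 : orderOf ((Fintype.card F : ℕ) : ZMod 2) = 1 := by
    have h1 := Lib.Zsigmondy.orderOf_dvd_pred Nat.prime_two h2F
    exact Nat.dvd_one.1 h1
  refine sep_of_nc hr Nat.prime_two ?_ ?_ ?_
  · refine nc_of_rep φ hφ hr Nat.prime_two hrF (by rwa [he]) ?_
    rw [he, hd]
    omega
  · refine nc_of_rep φ hφ Nat.prime_two hr h2F ?_ ?_
    · rw [hord2]
      exact fun h => hr.one_lt.ne' (Nat.dvd_one.1 h)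
    · rw [hord2, hd, mul_one]
      exact hrd
  · intro x y hx hy hxy
    have hyx : φ y * φ x = φ x * φ y := by rw [← map_mul, ← hxy, map_mul]
    have hyy : φ y ^ 2 = 1 := pow_eq_one_of_orderOf φ hy
    rcases invariant_eq (k := 1) hr hrF (by rw [pow_one]; exact pow_eq_one_of_orderOf φ hx)
      (ne_one_of_orderOf φ hφ hr hx) (by rw [he, hd]) (fixS (φ y)) (fixS_invariant hyx) with h | h
    · apply hneg y
      ext v
      have h1 : φ y v + v ∈ fixS (φ y) := by
        rw [mem_fixS, map_add]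
        have h2 : φ y (φ y v) = v := by
          have h3 : (φ y ^ 2) v = v := by rw [hyy]; rfl
          rw [pow_two] at h3
          exact h3
        rw [h2, add_comm]
      rw [h, Submodule.mem_bot] at h1
      rw [LinearMap.neg_apply, Module.End.one_apply]
      exact eq_neg_of_add_eq_zero_left h1
    · exact ne_one_of_orderOf φ hφ Nat.prime_two hy (fixS_eq_top_iff.1 h)

end Rep

end Cfsg.Agent.H518.DghpSep
end
end

-- part: H518/DghpPrim
section
set_option linter.all false
open scoped Cfsg.Agent.FastGrp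

/-!
# Primitive primes: numerical facts
-/

set_option autoImplicit false

namespace Cfsg.Agent.H518.DghpPrim

open Cfsg.Agent.Lib.Zsigmondy

/-- The order of `q` modulo `r` being positive means that `r ∤ q`. -/
theorem not_dvd_of_orderOf {q r n : ℕ} (hr : r.Prime) (h : orderOf (q : ZMod r) = n) (hn : 0 < n) : ¬ r ∣ q := by
  intro hd
  have : Fact r.Prime := ⟨hr⟩
  rw [(ZMod.natCast_eq_zero_iff q r).2 hd, orderOf_zero] at h
  omega

/-- `n ∣ r - 1`. -/
theorem dvd_pred {q r n : ℕ} (hr : r.Prime) (h : orderOf (q : ZMod r) = n) (hn : 0 < n) : n ∣ r - 1 := by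
  rw [← h]
  exact orderOf_dvd_pred hr (not_dvd_of_orderOf hr h hn)

/-- `n < r`. -/
theorem lt_prime {q r n : ℕ} (hr : r.Prime) (h : orderOf (q : ZMod r) = n) (hn : 0 < n) : n < r := by
  have h1 := Nat.le_of_dvd (Nat.sub_pos_of_lt hr.one_lt) (dvd_pred hr h hn)
  have h2 := hr.one_lt
  omega

/-- `r ∣ q ^ n - 1`. -/
theorem dvd_pow_sub_one {q r n : ℕ} (hq : 1 ≤ q) (h : orderOf (q : ZMod r) = n) : r ∣ q ^ n - 1 := by
  rw [dvd_pow_sub_one_iff hq, h]

/-- `r ∤ q ^ m - 1` for `n ∤ m`. -/
theorem not_dvd_pow_sub_one {q r n m : ℕ} (hq : 1 ≤ q) (h : orderOf (q : ZMod r) = n) (hm : ¬ n ∣ m) :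
    ¬ r ∣ q ^ m - 1 := by
  rw [dvd_pow_sub_one_iff hq, h]
  exact hm

/-- `r ∣ q ^ n + 1` when the order is `2 n`. -/
theorem dvd_pow_add_one {q r n : ℕ} (hr : r.Prime) (hq : 1 ≤ q) (hn : 0 < n) (h : orderOf (q : ZMod r) = 2 * n) :
    r ∣ q ^ n + 1 := by
  have h1 : r ∣ q ^ (2 * n) - 1 := dvd_pow_sub_one hq h
  have h2 : q ^ (2 * n) - 1 = (q ^ n - 1) * (q ^ n + 1) := by
    have h3 : 1 ≤ q ^ n := Nat.one_le_pow _ _ hq
    have h4 : q ^ (2 * n) = q ^ n * q ^ n := by rw [two_mul, pow_add]
    rw [h4]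
    obtain ⟨a, ha⟩ := Nat.exists_eq_add_of_le h3
    rw [ha]
    have h5 : (1 + a) * (1 + a) - 1 = a * (a + 2) := by
      have : (1 + a) * (1 + a) = a * (a + 2) + 1 := by ring
      omega
    rw [h5]
    have h6 : 1 + a - 1 = a := by omega
    rw [h6]
    ring
  rw [h2] at h1
  refine ((Nat.Prime.dvd_mul hr).1 h1).resolve_left ?_
  refine not_dvd_pow_sub_one hq h ?_
  intro h3
  have := Nat.le_of_dvd hn h3
  omega

/-- The order of `q ^ 2` when the order of `q` is `2 n`. -/
theorem orderOf_sq {q r n : ℕ} (h : orderOf (q : ZMod r) = 2 * n) (hn : 0 < n) : orderOf ((q ^ 2 : ℕ) : ZMod r) = n := by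
  rw [Nat.cast_pow, orderOf_pow' _ two_ne_zero, h]
  rw [Nat.gcd_eq_right (Dvd.intro _ rfl)]
  omega

theorem orderOf_two_five : orderOf ((2 : ℕ) : ZMod 5) = 4 := by
  have : orderOf (((2 : ℕ) : ZMod 5)) = 2 ^ (1 + 1) := orderOf_eq_prime_pow (by decide) (by decide)
  rw [this]
  norm_num

theorem orderOf_two_seven : orderOf ((2 : ℕ) : ZMod 7) = 3 := by
  have : Fact (Nat.Prime 3) := ⟨by norm_num⟩
  exact orderOf_eq_prime (by decide) (by decide)

theorem orderOf_two_31 : orderOf ((2 : ℕ) : ZMod 31) = 5 := by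
  have : Fact (Nat.Prime 5) := ⟨by norm_num⟩
  exact orderOf_eq_prime (by decide) (by decide)

theorem orderOf_two_17 : orderOf ((2 : ℕ) : ZMod 17) = 8 := by
  have : orderOf (((2 : ℕ) : ZMod 17)) = 2 ^ (2 + 1) := orderOf_eq_prime_pow (by decide) (by decide)
  rw [this]
  norm_num

theorem orderOf_four_11 : orderOf ((4 : ℕ) : ZMod 11) = 5 := by
  have : Fact (Nat.Prime 5) := ⟨by norm_num⟩
  exact orderOf_eq_prime (by decide) (by decide)

theorem orderOf_four_seven : orderOf ((4 : ℕ) : ZMod 7) = 3 := by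
  have : Fact (Nat.Prime 3) := ⟨by norm_num⟩
  exact orderOf_eq_prime (by decide) (by decide)

end Cfsg.Agent.H518.DghpPrim
end

-- part: H518/DghpPSp
section
prune_inst 0x110040004220000000000000000000020000000000004000402000001000c000000004031300000000000000000006003000000420000000a000000001c04010000000000000004000000000000000000000000000000000000000000000000200000000
set_option linter.all false
open scoped Cfsg.Agent.FastGrp

-- part: H518/DghpScalar
section
/-!
# Separation of an irreducible prime and a prime dividing `q - 1`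
-/

set_option autoImplicit false

namespace Cfsg.Agent.H518.DghpSep

open Module Polynomial Cfsg.Agent.H518.Dghp Cfsg.Agent.H518.DghpFix Cfsg.Agent.H518.DghpAlg

universe u v w

variable {F : Type u} [Field F] [Fintype F] {V : Type v} [AddCommGroup V] [Module F V] [FiniteDimensional F V]
  {G : Type w} [Group G]

/-- A linear map of order dividing `q - 1` has an eigenvalue. -/
theorem exists_hasEigenvalue [Nontrivial V] (f : V →ₗ[F] V) {s : ℕ} (hs : s ∣ Fintype.card F - 1)
    (hf : f ^ s = 1) : ∃ c : F, Module.End.HasEigenvalue f c := by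
  have h1 : f ^ (Fintype.card F - 1) = 1 := by
    obtain ⟨m, hm⟩ := hs
    rw [hm, pow_mul, hf, one_pow]
  have hq : 1 < Fintype.card F := Fintype.one_lt_card
  have h2 : minpoly F f ∣ X ^ Fintype.card F - X := by
    apply minpoly.dvd
    rw [map_sub, map_pow, aeval_X]
    have h3 : f ^ Fintype.card F = f ^ (Fintype.card F - 1) * f := by
      rw [← pow_succ]
      congr 1
      omega
    rw [h3, h1, one_mul, sub_self]
  have h3 : (X ^ Fintype.card F - X : F[X]) ≠ 0 := FiniteField.X_pow_card_sub_X_ne_zero F hq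
  have h4 : (X ^ Fintype.card F - X : F[X]).Splits := by
    rw [splits_iff_card_roots, FiniteField.roots_X_pow_card_sub_X, FiniteField.X_pow_card_sub_X_natDegree_eq F hq]
    exact Finset.card_univ
  have h5 : (minpoly F f).Splits := h4.of_dvd h3 h2
  have h6 : (minpoly F f).degree ≠ 0 := by
    have h7 : 0 < (minpoly F f).degree := minpoly.degree_pos (Algebra.IsIntegral.isIntegral f)
    exact h7.ne'
  obtain ⟨c, hc⟩ := h5.exists_eval_eq_zero h6
  exact ⟨c, Module.End.hasEigenvalue_of_isRoot hc⟩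

/-- Separation of an irreducible prime and a prime dividing `q - 1`, when `G` contains no scalars of that order. -/
theorem sep_scalar [Finite G] (φ : G →* (V →ₗ[F] V)) (hφ : Function.Injective φ) {r s : ℕ} (hr : r.Prime)
    (hs : s.Prime) (hrF : ¬ r ∣ Fintype.card F) (hsF : s ∣ Fintype.card F - 1) {d : ℕ}
    (he : orderOf ((Fintype.card F : ℕ) : ZMod r) = d) (hd : finrank F V = d) (hsd : ¬ s ∣ d)
    (hscal : ∀ y : G, orderOf y = s → ∀ c : F, φ y ≠ c • 1) : _root_.Cfsg.Agent.H518.Dghp.Sep G r s := by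
  have hq : 1 < Fintype.card F := Fintype.one_lt_card
  have hsF' : ¬ s ∣ Fintype.card F := by
    intro h
    have h1 : s ∣ Fintype.card F - (Fintype.card F - 1) := Nat.dvd_sub h hsF
    rw [Nat.sub_sub_self hq.le] at h1
    exact hs.one_lt.ne' (Nat.dvd_one.1 h1)
  have hd1 : 0 < d := by
    rcases Nat.eq_zero_or_pos d with h | h
    · rw [h] at hsd
      exact absurd (dvd_zero s) hsd
    · exact h
  have hrd : d < r := by
    have h1 := Lib.Zsigmondy.orderOf_dvd_pred hr hrF
    rw [he] at h1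
    have h2 := Nat.le_of_dvd (Nat.sub_pos_of_lt hr.one_lt) h1
    have h3 := hr.one_lt
    omega
  have hords : orderOf ((Fintype.card F : ℕ) : ZMod s) = 1 := by
    have h1 := (Lib.Zsigmondy.dvd_pow_sub_one_iff (a := Fintype.card F) (r := s) hq.le 1).1 (by rwa [pow_one])
    exact Nat.dvd_one.1 h1
  refine sep_of_nc hr hs ?_ ?_ ?_
  · refine nc_of_rep φ hφ hr hs hrF (by rwa [he]) ?_
    rw [he, hd]
    have := Nat.mul_le_mul_right d hs.two_le
    omega
  · refine nc_of_rep φ hφ hs hr hsF' ?_ ?_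
    · rw [hords]
      exact fun h => hr.one_lt.ne' (Nat.dvd_one.1 h)
    · rw [hords, hd, mul_one]
      exact hrd
  · intro x y hx hy hxy
    have hyx : φ y * φ x = φ x * φ y := by rw [← map_mul, ← hxy, map_mul]
    have : Nontrivial V := by
      by_contra hcon
      rw [not_nontrivial_iff_subsingleton] at hcon
      exact ne_one_of_orderOf φ hφ hr hx (LinearMap.ext fun v => Subsingleton.elim _ _)
    obtain ⟨c, hc⟩ := exists_hasEigenvalue (φ y) hsF (pow_eq_one_of_orderOf φ hy)
    have hinv : ∀ v ∈ Module.End.eigenspace (φ y) c, φ x v ∈ Module.End.eigenspace (φ y) c := by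
      intro v hv
      rw [Module.End.mem_eigenspace_iff] at hv ⊢
      have h1 : (φ y * φ x) v = (φ x * φ y) v := by rw [hyx]
      rw [Module.End.mul_apply, Module.End.mul_apply, hv, map_smul] at h1
      exact h1
    rcases invariant_eq (k := 1) hr hrF (by rw [pow_one]; exact pow_eq_one_of_orderOf φ hx)
      (ne_one_of_orderOf φ hφ hr hx) (by rw [he, hd]) (Module.End.eigenspace (φ y) c) hinv with h | h
    · exact hc h
    · apply hscal y hy c
      ext v
      have h1 : v ∈ Module.End.eigenspace (φ y) c := by rw [h]; trivial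
      rw [Module.End.mem_eigenspace_iff] at h1
      rw [h1, LinearMap.smul_apply, Module.End.one_apply]

end Cfsg.Agent.H518.DghpSep
end

-- part: H518/DghpPSL
section
/-!
# The groups `PSL_n(q)`, `n ≥ 3`
-/

set_option autoImplicit false

namespace Cfsg.Agent.H518.DghpMat

open Module Cfsg.Agent.H518.Dghp Cfsg.Agent.H518.DghpSep Cfsg.Agent.H518.DghpPrim

universe u v

section Rep

variable {ι : Type} [Fintype ι] [DecidableEq ι] {F : Type u} [Field F] {G : Type v} [Group G]

/-- The representation on column vectors given by a homomorphism to matrices. -/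
noncomputable def matRep (f : G →* Matrix ι ι F) : G →* ((ι → F) →ₗ[F] (ι → F)) :=
  ((Matrix.toLinAlgEquiv' : Matrix ι ι F ≃ₐ[F] _) : Matrix ι ι F →* ((ι → F) →ₗ[F] (ι → F))).comp f

theorem matRep_apply (f : G →* Matrix ι ι F) (g : G) : matRep f g = Matrix.toLinAlgEquiv' (f g) := rfl

theorem matRep_injective {f : G →* Matrix ι ι F} (hf : Function.Injective f) : Function.Injective (matRep f) := by
  intro a b h
  rw [matRep_apply, matRep_apply] at h
  exact hf (Matrix.toLinAlgEquiv'.injective h)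

theorem matRep_eq_smul {f : G →* Matrix ι ι F} {g : G} {c : F} (h : matRep f g = c • 1) : f g = c • 1 := by
  rw [matRep_apply] at h
  apply Matrix.toLinAlgEquiv'.injective
  rw [h, map_smul, map_one]

theorem matRep_eq_neg_one {f : G →* Matrix ι ι F} {g : G} (h : matRep f g = -1) : f g = -1 := by
  rw [matRep_apply] at h
  apply Matrix.toLinAlgEquiv'.injective
  rw [h, map_neg, map_one]

omit [DecidableEq ι] in
theorem finrank_pi_fin : finrank F (ι → F) = Fintype.card ι := Module.finrank_fintype_fun_eq_card F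

/-- `Core` for the central quotient from separation. -/
theorem core_center_quotient [Finite G] {r s : ℕ} (h : _root_.Cfsg.Agent.H518.Dghp.Sep G r s) (hr : r.Prime) (hs : s.Prime) (hrs : r ≠ s)
    (hrG : r ∣ Nat.card (G ⧸ Subgroup.center G)) (hsG : s ∣ Nat.card (G ⧸ Subgroup.center G)) :
    Core (G ⧸ Subgroup.center G) := by
  refine Sep.core (Sep.of_surjective h (QuotientGroup.mk' (Subgroup.center G)) (QuotientGroup.mk'_surjective _) ?_)
    hr hs hrs hrG hsG
  rw [QuotientGroup.ker_mk']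
  exact Group.isSolvable_of_comm fun a b => Subtype.ext ((Subgroup.mem_center_iff.1 b.2) a)

end Rep

/-- The inclusion of `SL_n` into matrices. -/
def slHom (ι : Type) [Fintype ι] [DecidableEq ι] (F : Type u) [Field F] :
    Matrix.SpecialLinearGroup ι F →* Matrix ι ι F where
  toFun A := A.1
  map_one' := rfl
  map_mul' _ _ := rfl

theorem slHom_injective (ι : Type) [Fintype ι] [DecidableEq ι] (F : Type u) [Field F] :
    Function.Injective (slHom ι F) := Subtype.val_injective

section SL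

variable {F : Type} [Field F] [Fintype F] {n : ℕ}

/-- `|SL_n(q)|` without division. -/
theorem card_SL_succ {q : ℕ} (hF : Fintype.card F = q) (m : ℕ) :
    Nat.card (Matrix.SpecialLinearGroup (Fin (m + 1)) F) = (∏ i : Fin m, (q ^ (m + 1) - q ^ (i : ℕ))) * q ^ m := by
  have h := Cfsg.Agent.S0242.result hF (m + 1) (by omega)
  rw [Fin.prod_univ_castSucc] at h
  have hq : 1 < q := hF ▸ Fintype.one_lt_card
  simp only [Fin.val_castSucc, Fin.val_last] at h
  have h1 : q ^ (m + 1) - q ^ m = (q - 1) * q ^ m := by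
    rw [Nat.sub_mul, one_mul, pow_succ, mul_comm]
  rw [h1] at h
  have h2 : (q - 1) * Nat.card (Matrix.SpecialLinearGroup (Fin (m + 1)) F) =
      (q - 1) * ((∏ i : Fin m, (q ^ (m + 1) - q ^ (i : ℕ))) * q ^ m) := by
    rw [h]
    ring
  exact Nat.eq_of_mul_eq_mul_left (by omega) h2

/-- `q ^ j - 1` divides `|SL_n(q)|` for `2 ≤ j ≤ n`. -/
theorem pow_sub_one_dvd_card_SL {q : ℕ} (hF : Fintype.card F = q) {j : ℕ} (hj : 2 ≤ j) (hjn : j ≤ n) :
    q ^ j - 1 ∣ Nat.card (Matrix.SpecialLinearGroup (Fin n) F) := by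
  obtain ⟨m, rfl⟩ : ∃ m, n = m + 1 := ⟨n - 1, by omega⟩
  rw [card_SL_succ hF]
  refine Dvd.dvd.mul_right ?_ _
  have h1 := Finset.dvd_prod_of_mem (fun i : Fin m => q ^ (m + 1) - q ^ (i : ℕ))
    (Finset.mem_univ (⟨m + 1 - j, by omega⟩ : Fin m))
  refine dvd_trans ?_ h1
  refine ⟨q ^ (m + 1 - j), ?_⟩
  show q ^ (m + 1) - q ^ (m + 1 - j) = _
  rw [Nat.sub_mul, one_mul, ← pow_add]
  congr 2
  omega

/-- `q` divides `|SL_n(q)|` for `2 ≤ n`. -/
theorem dvd_card_SL {q : ℕ} (hF : Fintype.card F = q) (hn : 2 ≤ n) :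
    q ∣ Nat.card (Matrix.SpecialLinearGroup (Fin n) F) := by
  obtain ⟨m, rfl⟩ : ∃ m, n = m + 1 := ⟨n - 1, by omega⟩
  rw [card_SL_succ hF]
  exact Dvd.dvd.mul_left (dvd_pow_self q (by omega)) _

/-- Prime divisors of `|PSL_n(q)|`. -/
theorem dvd_card_PSL {q r : ℕ} (hF : Fintype.card F = q) (hn : 2 ≤ n) (hr : r.Prime)
    (h : r ∣ Nat.card (Matrix.SpecialLinearGroup (Fin n) F)) (hrn : ¬ r ∣ Nat.gcd n (q - 1)) :
    r ∣ Nat.card (Matrix.ProjectiveSpecialLinearGroup (Fin n) F) := by
  have h1 := Cfsg.Agent.S0242.result hF n (by omega)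
  have h2 := Cfsg.Agent.S0243.result hF n hn
  have hq : 1 < q := hF ▸ Fintype.one_lt_card
  have h3 : (q - 1) * (Nat.gcd n (q - 1) * Nat.card (Matrix.ProjectiveSpecialLinearGroup (Fin n) F)) =
      (q - 1) * Nat.card (Matrix.SpecialLinearGroup (Fin n) F) := by
    rw [h1, ← h2]
    ring
  have h4 := Nat.eq_of_mul_eq_mul_left (by omega) h3
  rw [← h4] at h
  exact ((Nat.Prime.dvd_mul hr).1 h).resolve_left hrn

/-- `PSL_n(q)` for odd `n ≥ 3`. -/
theorem core_psl_odd (hn : 3 ≤ n) (hodd : Odd n) : Core (Matrix.ProjectiveSpecialLinearGroup (Fin n) F) := by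
  obtain ⟨q, hF⟩ : ∃ q, Fintype.card F = q := ⟨_, rfl⟩
  have hq : 1 < q := hF ▸ Fintype.one_lt_card
  have hn2 : ¬ 2 ∣ n := fun h => (Nat.not_even_iff_odd.2 hodd) (even_iff_two_dvd.2 h)
  obtain ⟨r, hr, hord⟩ := Lib.Zsigmondy.exists_prime_orderOf (a := q) (n := n) (by omega) (by omega)
    (fun h => by omega) (fun h => by omega)
  have hrq : ¬ r ∣ q := not_dvd_of_orderOf hr hord (by omega)
  have hrn : n < r := lt_prime hr hord (by omega)
  have hr1 : ¬ r ∣ q - 1 := by
    have h1 := not_dvd_pow_sub_one (q := q) (m := 1) (by omega) hord (fun h => by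
      have := Nat.le_of_dvd one_pos h
      omega)
    rwa [pow_one] at h1
  have hrSL : r ∣ Nat.card (Matrix.SpecialLinearGroup (Fin n) F) :=
    (dvd_pow_sub_one (by omega) hord).trans (pow_sub_one_dvd_card_SL hF (by omega) le_rfl)
  have h2SL : 2 ∣ Nat.card (Matrix.SpecialLinearGroup (Fin n) F) := by
    rcases Nat.even_or_odd q with h | h
    · exact (even_iff_two_dvd.1 h).trans (dvd_card_SL hF (by omega))
    · refine dvd_trans ?_ (pow_sub_one_dvd_card_SL hF (j := 2) le_rfl (by omega))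
      have h1 : Odd (q ^ 2) := h.pow
      exact (Nat.Odd.sub_odd h1 odd_one).two_dvd
  have hrg : ¬ r ∣ Nat.gcd n (q - 1) := fun h => hr1 (h.trans (Nat.gcd_dvd_right _ _))
  have h2g : ¬ 2 ∣ Nat.gcd n (q - 1) := fun h => hn2 (h.trans (Nat.gcd_dvd_left _ _))
  have hsep : _root_.Cfsg.Agent.H518.Dghp.Sep (Matrix.SpecialLinearGroup (Fin n) F) r 2 := by
    rcases Nat.even_or_odd q with h | h
    · refine sep_char (matRep (slHom (Fin n) F)) (matRep_injective (slHom_injective _ _)) hr Nat.prime_two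
        (by rwa [hF]) (by rw [hF]; exact even_iff_two_dvd.1 h) (d := n) (by rw [hF, hord])
        (by rw [finrank_pi_fin, Fintype.card_fin]) (by omega) hn2
    · refine sep_two (matRep (slHom (Fin n) F)) (matRep_injective (slHom_injective _ _)) hr (by rwa [hF])
        (by rw [hF]; exact fun h' => (Nat.not_even_iff_odd.2 h) (even_iff_two_dvd.2 h')) (d := n)
        (by rw [hF, hord]) (by rw [finrank_pi_fin, Fintype.card_fin]) hn2 ?_
      intro y hy
      have h1 := matRep_eq_neg_one hy
      have h2 : (y : Matrix (Fin n) (Fin n) F).det = 1 := y.2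
      have h3 : (y : Matrix (Fin n) (Fin n) F) = -1 := h1
      rw [h3, Matrix.det_neg, Matrix.det_one, mul_one, Fintype.card_fin, hodd.neg_one_pow] at h2
      have h4 : (2 : F) = 0 := by
        have : (1 : F) + 1 = 0 := by
          nth_rewrite 1 [← h2]
          ring
        rwa [one_add_one_eq_two] at this
      have h6 : ringChar F = 2 := by
        have h7 : ringChar F ∣ 2 := (ringChar.spec F 2).1 (by exact_mod_cast h4)
        exact (Nat.prime_dvd_prime_iff_eq (CharP.char_is_prime F (ringChar F)) Nat.prime_two).1 h7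
      have h7 := FiniteField.even_card_of_char_two h6
      rw [hF] at h7
      have h8 := Nat.odd_iff.1 h
      omega
  have hr2 : r ≠ 2 := by omega
  exact core_center_quotient hsep hr Nat.prime_two hr2 (dvd_card_PSL hF (by omega) hr hrSL hrg)
    (dvd_card_PSL hF (by omega) Nat.prime_two h2SL h2g)

/-- `PSL_n(q)` for even `n ≥ 4`. -/
theorem core_psl_even (hn : 4 ≤ n) (heven : Even n) : Core (Matrix.ProjectiveSpecialLinearGroup (Fin n) F) := by
  obtain ⟨q, hF⟩ : ∃ q, Fintype.card F = q := ⟨_, rfl⟩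
  have hq : 1 < q := hF ▸ Fintype.one_lt_card
  -- the general argument
  have main : ∀ r s e f : ℕ, r.Prime → s.Prime → orderOf (q : ZMod r) = e → orderOf (q : ZMod s) = f → 2 ≤ e →
      2 ≤ f → e ≤ n → f ≤ n → n < 2 * e → n < e + f → ¬ f ∣ e → ¬ s ∣ e → ¬ r ∣ f → n < r * f → r ≠ s →
      Core (Matrix.ProjectiveSpecialLinearGroup (Fin n) F) := by
    intro r s e f hr hs he hf he2 hf2 hen hfn h1 h2 h3 h4 h5 h6 hrs
    have hrq : ¬ r ∣ q := not_dvd_of_orderOf hr he (by omega)
    have hsq : ¬ s ∣ q := not_dvd_of_orderOf hs hf (by omega)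
    have hr1 : ¬ r ∣ q - 1 := by
      have h1 := not_dvd_pow_sub_one (q := q) (m := 1) (by omega) he (fun h => by
        have := Nat.le_of_dvd one_pos h
        omega)
      rwa [pow_one] at h1
    have hs1 : ¬ s ∣ q - 1 := by
      have h1 := not_dvd_pow_sub_one (q := q) (m := 1) (by omega) hf (fun h => by
        have := Nat.le_of_dvd one_pos h
        omega)
      rwa [pow_one] at h1
    have hsep : _root_.Cfsg.Agent.H518.Dghp.Sep (Matrix.SpecialLinearGroup (Fin n) F) r s :=
      sep_linear (matRep (slHom (Fin n) F)) (matRep_injective (slHom_injective _ _)) hr hs (by rwa [hF])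
        (by rwa [hF]) (e := e) (f := f) (d := n) (by rw [hF, he]) (by rw [hF, hf])
        (by rw [finrank_pi_fin, Fintype.card_fin]) h1 h2 h3 h4 h5 h6
    refine core_center_quotient hsep hr hs hrs (dvd_card_PSL hF (by omega) hr ?_ ?_)
      (dvd_card_PSL hF (by omega) hs ?_ ?_)
    · exact (dvd_pow_sub_one (by omega) he).trans (pow_sub_one_dvd_card_SL hF he2 hen)
    · exact fun h => hr1 (h.trans (Nat.gcd_dvd_right _ _))
    · exact (dvd_pow_sub_one (by omega) hf).trans (pow_sub_one_dvd_card_SL hF hf2 hfn)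
    · exact fun h => hs1 (h.trans (Nat.gcd_dvd_right _ _))
  by_cases h26 : q = 2 ∧ n = 6
  · obtain ⟨rfl, rfl⟩ := h26
    exact main 31 7 5 3 (by norm_num) (by norm_num) orderOf_two_31 orderOf_two_seven (by norm_num) (by norm_num)
      (by norm_num) (by norm_num) (by norm_num) (by norm_num) (by norm_num) (by norm_num) (by norm_num)
      (by norm_num) (by norm_num)
  · obtain ⟨r, hr, he⟩ := Lib.Zsigmondy.exists_prime_orderOf (a := q) (n := n) (by omega) (by omega)
      (fun h => by omega) h26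
    obtain ⟨s, hs, hf⟩ := Lib.Zsigmondy.exists_prime_orderOf (a := q) (n := n - 1) (by omega) (by omega)
      (fun h => by omega) (fun h => by
        obtain ⟨k, hk⟩ := heven
        omega)
    have hrn := lt_prime hr he (by omega)
    have hsn := lt_prime hs hf (by omega)
    refine main r s n (n - 1) hr hs he hf (by omega) (by omega) le_rfl (by omega) (by omega) (by omega) ?_ ?_ ?_ ?_
      ?_
    · intro h
      have h1 : n - 1 ∣ n - (n - 1) := Nat.dvd_sub h dvd_rfl
      have h2 : n - (n - 1) = 1 := by omega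
      rw [h2] at h1
      have := Nat.le_of_dvd one_pos h1
      omega
    · intro h
      have h1 := Nat.le_of_dvd (by omega) h
      have h2 : s = n := by omega
      rw [h2] at hs
      obtain ⟨k, hk⟩ := heven
      rcases hs.eq_one_or_self_of_dvd 2 ⟨k, by omega⟩ with h3 | h3 <;> omega
    · intro h
      have := Nat.le_of_dvd (by omega) h
      omega
    · calc n < r := hrn
        _ = r * 1 := (mul_one r).symm
        _ ≤ r * (n - 1) := Nat.mul_le_mul_left r (by omega)
    · intro h
      rw [h, hf] at he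
      omega

end SL

end Cfsg.Agent.H518.DghpMat
end

-- part: H518/DghpPSLTwo
section
/-!
# The groups `PSL_2(q)`
-/

set_option autoImplicit false

namespace Cfsg.Agent.H518.DghpMat

open Module Cfsg.Agent.H518.Dghp Cfsg.Agent.H518.DghpSep Cfsg.Agent.H518.DghpPrim

universe u v w

/-- A `p`-subgroup of a linear group in characteristic `p` has a common fixed vector. -/
theorem exists_fixed_vector {F : Type u} [Field F] [Fintype F] {V : Type v} [AddCommGroup V] [Module F V]
    [FiniteDimensional F V] [Nontrivial V] {G : Type w} [Group G] (φ : G →* (V →ₗ[F] V)) {p : ℕ} (hp : p.Prime)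
    (hpF : p ∣ Fintype.card F) (N : Subgroup G) [Finite N] (hN : IsPGroup p N) :
    ∃ v : V, v ≠ 0 ∧ ∀ m ∈ N, φ m v = v := by
  have : Finite F := Finite.of_fintype F
  have : Finite V := Module.finite_of_finite F
  have hpf : Fact p.Prime := ⟨hp⟩
  let _ : MulAction N V :=
    { smul := fun m v => φ m v
      one_smul := fun v => by
        show φ ((1 : N) : G) v = v
        rw [Subgroup.coe_one, map_one]
        rfl
      mul_smul := fun a b v => by
        show φ ((a * b : N) : G) v = φ a (φ b v)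
        rw [Subgroup.coe_mul, map_mul]
        rfl }
  have hdvd : p ∣ Nat.card V := by
    rw [Module.natCard_eq_pow_finrank (K := F) (V := V), Nat.card_eq_fintype_card]
    exact dvd_pow hpF (finrank_pos (R := F) (M := V)).ne'
  have h0 : (0 : V) ∈ MulAction.fixedPoints N V := fun m => map_zero (φ m)
  obtain ⟨b, hb, hb0⟩ := hN.exists_fixed_point_of_prime_dvd_card_of_fixed_point V hdvd h0
  exact ⟨b, hb0.symm, fun m hm => hb ⟨m, hm⟩⟩

section

variable {F : Type} [Field F] [Fintype F]

/-- In a ring in which `4` is regular, `(1 + N) ^ 4 = 1` and `N ^ 2 = 0` force `N = 0`. -/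
theorem eq_zero_of_sq {R : Type*} [Ring R] {N : R} (hN : N * N = 0) (h4 : ((1 + N) * (1 + N)) * ((1 + N) * (1 + N)) = 1) :
    (4 : ℕ) • N = 0 := by
  have h1 : (1 + N) * (1 + N) = 1 + (N + N) := by
    simp only [mul_add, add_mul, mul_one, one_mul, hN]
    abel
  have h2 : (1 + (N + N)) * (1 + (N + N)) = 1 + (N + N + N + N) := by
    have h3 : (N + N) * (N + N) = 0 := by
      simp only [mul_add, add_mul, hN, add_zero]
    rw [mul_add (1 + (N + N)) 1 (N + N), add_mul 1 (N + N) (N + N), mul_one, one_mul, h3]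
    abel
  rw [h1, h2] at h4
  have h5 : N + N + N + N = 0 := by
    have := sub_eq_zero.2 h4
    rw [← this]
    abel
  rw [← h5]
  abel

omit [Fintype F] in
/-- An element of `SL_2` of order dividing `4` with a fixed vector is trivial (odd characteristic). -/
theorem eq_one_of_fixed (h2 : (2 : F) ≠ 0) (A : Matrix.SpecialLinearGroup (Fin 2) F) (hA : A ^ 4 = 1)
    (w : Fin 2 → F) (hw : w ≠ 0) (hAw : A.1.mulVec w = w) : A = 1 := by
  obtain ⟨M, hM⟩ : ∃ M : Matrix (Fin 2) (Fin 2) F, A.1 = M := ⟨_, rfl⟩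
  have hdet1 : M.det = 1 := hM ▸ A.2
  have hMM : (M * M) * (M * M) = 1 := by
    have h6 : (A * A) * (A * A) = 1 := by
      rw [← hA]
      simp only [pow_succ, pow_zero, one_mul, mul_assoc]
    have h7 := congrArg Subtype.val h6
    rw [← hM]
    exact h7
  rw [hM] at hAw
  have h0 : (M - 1).mulVec w = 0 := by
    rw [Matrix.sub_mulVec, hAw, Matrix.one_mulVec, sub_self]
  have hdet : (M - 1).det = 0 := Matrix.exists_mulVec_eq_zero_iff.1 ⟨w, hw, h0⟩
  rw [Matrix.det_fin_two] at hdet hdet1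
  simp only [Matrix.sub_apply, Matrix.one_apply_eq, Matrix.one_apply_ne (show (0 : Fin 2) ≠ 1 by decide),
    Matrix.one_apply_ne (show (1 : Fin 2) ≠ 0 by decide), sub_zero] at hdet
  have htr : M 0 0 + M 1 1 = 2 := by linear_combination hdet1 - hdet
  have hsq : (M - 1) * (M - 1) = 0 := by
    ext i j
    fin_cases i <;> fin_cases j <;> simp only [Matrix.mul_apply, Fin.sum_univ_two, _root_.Fin.zero_eta, _root_.Fin.isValue, _root_.Matrix.sub_apply, _root_.Matrix.one_apply_eq, _root_.ne_eq, _root_.zero_ne_one, _root_.not_false_eq_true, _root_.Matrix.one_apply_ne, _root_.sub_zero, _root_.one_ne_zero, _root_.Matrix.zero_apply, _root_.Fin.mk_one]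
    · linear_combination M 0 0 * htr - hdet1
    · linear_combination M 0 1 * htr
    · linear_combination M 1 0 * htr
    · linear_combination M 1 1 * htr - hdet1
  have h4 : (4 : ℕ) • (M - 1) = 0 := by
    refine eq_zero_of_sq hsq ?_
    rw [add_sub_cancel, hMM]
  have h40 : (4 : F) ≠ 0 := by
    have : (4 : F) = 2 * 2 := by norm_num
    rw [this]
    exact mul_ne_zero h2 h2
  have h5 : (4 : F) • (M - 1) = 0 := by
    rw [← h4, ← Nat.cast_smul_eq_nsmul F]
    norm_num
  have h6 : M - 1 = 0 := (smul_eq_zero.1 h5).resolve_left h40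
  apply Subtype.ext
  rw [hM]
  exact sub_eq_zero.1 h6

omit [Fintype F] in
theorem neg_val (A : Matrix.SpecialLinearGroup (Fin 2) F) : (-A).1 = -A.1 := rfl

/-- **Borel subgroups.** For `q ≡ 3 mod 4`, a subgroup of `SL_2(q)` with a nontrivial normal `p`-subgroup has order
not divisible by `4`. -/
theorem not_four_dvd (hq : Fintype.card F % 4 = 3) {p : ℕ} (hp : p.Prime) (hpF : p ∣ Fintype.card F)
    (H : Subgroup (Matrix.SpecialLinearGroup (Fin 2) F)) (P : Subgroup H) [P.Normal] (hP : IsPGroup p P) (hP1 : P ≠ ⊥) :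
    ¬ 4 ∣ Nat.card H := by
  intro h4
  classical
  have h2 : (2 : F) ≠ 0 := by
    intro h
    have h6 : ringChar F = 2 := by
      have h7 : ringChar F ∣ 2 := (ringChar.spec F 2).1 (by exact_mod_cast h)
      exact (Nat.prime_dvd_prime_iff_eq (CharP.char_is_prime F (ringChar F)) Nat.prime_two).1 h7
    have h7 := FiniteField.even_card_of_char_two h6
    omega
  set φ : H →* ((Fin 2 → F) →ₗ[F] (Fin 2 → F)) := (matRep (slHom (Fin 2) F)).comp H.subtype with hφ
  have hφi : Function.Injective φ := (matRep_injective (slHom_injective (Fin 2) F)).comp H.subtype_injective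
  have hφa : ∀ (h : H) (v : Fin 2 → F), φ h v = (h : Matrix.SpecialLinearGroup (Fin 2) F).1.mulVec v := fun h v => rfl
  obtain ⟨w, hw, hwP⟩ := exists_fixed_vector φ hp hpF P hP
  -- the fixed space of `P`
  let W : Submodule F (Fin 2 → F) :=
    { carrier := {v | ∀ m ∈ P, φ m v = v}
      zero_mem' := fun m _ => map_zero _
      add_mem' := fun {a b} ha hb m hm => by rw [map_add, ha m hm, hb m hm]
      smul_mem' := fun c a ha m hm => by rw [map_smul, ha m hm] }
  have hWH : ∀ h : H, ∀ v ∈ W, φ h v ∈ W := by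
    intro h v hv m hm
    have h1 : m * h = h * (h⁻¹ * m * h) := by group
    have h2 : h⁻¹ * m * h ∈ P := by
      have := (inferInstance : P.Normal).conj_mem m hm h⁻¹
      rwa [inv_inv] at this
    have h3 : φ m (φ h v) = φ (m * h) v := by rw [map_mul]; rfl
    rw [h3, h1, map_mul, Module.End.mul_apply, hv _ h2]
  have hWt : W ≠ ⊤ := by
    intro htop
    apply hP1
    rw [Subgroup.eq_bot_iff_forall]
    intro m hm
    apply hφi
    rw [map_one]
    refine LinearMap.ext fun v => ?_
    have h1 : v ∈ W := by rw [htop]; trivial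
    exact h1 m hm
  have hW1 : finrank F W = 1 := by
    have h1 : finrank F W < 2 := by
      have h3 : finrank F (Fin 2 → F) = 2 := by rw [finrank_pi_fin, Fintype.card_fin]
      have h4 := Submodule.finrank_lt hWt
      omega
    have h3 : finrank F W ≠ 0 := by
      intro h0
      have h5 : W = ⊥ := Submodule.finrank_eq_zero.1 h0
      have h6 : w ∈ W := hwP
      rw [h5, Submodule.mem_bot] at h6
      exact hw h6
    omega
  have hscal : ∀ h : H, ∃ c : F, φ h w = c • w := by
    intro h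
    obtain ⟨c, hc⟩ := exists_smul_eq_of_finrank_eq_one hW1 (x := (⟨w, hwP⟩ : W))
      (fun h => hw (congrArg Subtype.val h)) ⟨φ h w, hWH h w hwP⟩
    exact ⟨c, (congrArg Subtype.val hc).symm⟩
  -- elements of order dividing `4`
  have hfour : ∀ h : H, h ^ 4 = 1 → (h : Matrix.SpecialLinearGroup (Fin 2) F) = 1 ∨
      (h : Matrix.SpecialLinearGroup (Fin 2) F) = -1 := by
    intro h hh
    obtain ⟨c, hc⟩ := hscal h
    have hc4 : c ^ 4 = 1 := by
      have h1 : ∀ k : ℕ, φ (h ^ k) w = c ^ k • w := by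
        intro k
        induction k with
        | zero => simp only [_root_.pow_zero, _root_.map_one, _root_.Module.End.one_apply, _root_.one_smul]
        | succ k ih =>
          rw [pow_succ, map_mul, Module.End.mul_apply, hc, map_smul, ih, smul_smul, pow_succ, mul_comm]
      have h3 := h1 4
      rw [hh, map_one, Module.End.one_apply] at h3
      have h5 : (c ^ 4 - 1) • w = 0 := by rw [sub_smul, ← h3, one_smul, sub_self]
      exact sub_eq_zero.1 ((smul_eq_zero.1 h5).resolve_right hw)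
    have hc0 : c ≠ 0 := by
      rintro rfl
      norm_num at hc4
    have hc2 : c ^ 2 = 1 := by
      have h1 : c ^ (Fintype.card F - 1) = 1 := FiniteField.pow_card_sub_one_eq_one c hc0
      have h3 : Fintype.card F - 1 = 4 * (Fintype.card F / 4) + 2 := by omega
      rw [h3, pow_add, pow_mul, hc4, one_pow, one_mul] at h1
      exact h1
    have hcc : c = 1 ∨ c = -1 := by
      have h1 : (c - 1) * (c + 1) = 0 := by linear_combination hc2
      rcases mul_eq_zero.1 h1 with h | h
      · exact Or.inl (sub_eq_zero.1 h)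
      · exact Or.inr (eq_neg_of_add_eq_zero_left h)
    have hh' : (h : Matrix.SpecialLinearGroup (Fin 2) F) ^ 4 = 1 := by
      rw [← Subgroup.coe_pow, hh, Subgroup.coe_one]
    rcases hcc with rfl | rfl
    · left
      exact eq_one_of_fixed h2 _ hh' w hw (by rw [← hφa, hc, one_smul])
    · right
      have h1 : -(h : Matrix.SpecialLinearGroup (Fin 2) F) = 1 := by
        refine eq_one_of_fixed h2 _ ?_ w hw ?_
        · rw [Even.neg_pow (by decide), hh']
        · rw [neg_val, Matrix.neg_mulVec, ← hφa, hc, neg_smul, one_smul, neg_neg]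
      rw [← h1, neg_neg]
  -- a subgroup of order `4`
  obtain ⟨T, hT⟩ := Sylow.exists_subgroup_card_pow_prime (G := H) 2 (n := 2) (by norm_num only [← Nat.card_eq_fintype_card]; exact h4)
  have hsub : ∀ t : T, ((t : H) : Matrix.SpecialLinearGroup (Fin 2) F) ∈
      ({1, -1} : Set (Matrix.SpecialLinearGroup (Fin 2) F)) := by
    intro t
    have h1 : (t : H) ^ 4 = 1 := by
      have h3 : t ^ Nat.card T = 1 := pow_card_eq_one'
      rw [hT] at h3
      have h5 := congrArg Subtype.val h3
      norm_num only [_root_.SubmonoidClass.coe_pow, _root_.OneMemClass.coe_one] at h5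
      exact h5
    exact hfour t h1
  have h5 : Nat.card T ≤ Nat.card ({1, -1} : Set (Matrix.SpecialLinearGroup (Fin 2) F)) := by
    refine Nat.card_le_card_of_injective (fun t : T =>
      (⟨_, hsub t⟩ : ({1, -1} : Set (Matrix.SpecialLinearGroup (Fin 2) F)))) ?_
    intro a b hab
    have hab' : ((a : H) : Matrix.SpecialLinearGroup (Fin 2) F) = ((b : H) : Matrix.SpecialLinearGroup (Fin 2) F) :=
      congrArg (fun z : ({1, -1} : Set (Matrix.SpecialLinearGroup (Fin 2) F)) =>
        (z : Matrix.SpecialLinearGroup (Fin 2) F)) hab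
    exact Subtype.ext (Subtype.ext hab')
  have h6 : Nat.card ({1, -1} : Set (Matrix.SpecialLinearGroup (Fin 2) F)) ≤ 2 := by
    rw [Nat.card_coe_set_eq]
    exact (Set.ncard_insert_le _ _).trans (by rw [Set.ncard_singleton])
  rw [hT] at h5
  omega

/-- Odd prime divisors of `q + 1`. -/
theorem orderOf_eq_two {q r : ℕ} (hr : r.Prime) (hr2 : r ≠ 2) (h : r ∣ q + 1) :
    orderOf (q : ZMod r) = 2 := by
  have : Fact (Nat.Prime 2) := ⟨Nat.prime_two⟩
  have hr0 : 2 < r := lt_of_le_of_ne hr.two_le hr2.symm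
  have h1 : (q : ZMod r) = -1 := by
    have h2 : ((q + 1 : ℕ) : ZMod r) = 0 := (ZMod.natCast_eq_zero_iff _ _).2 h
    rw [Nat.cast_add, Nat.cast_one] at h2
    exact eq_neg_of_add_eq_zero_left h2
  refine orderOf_eq_prime ?_ ?_
  · rw [h1]
    ring
  · rw [h1]
    intro h2
    have h3 : ((2 : ℕ) : ZMod r) = 0 := by
      have h4 : (1 : ZMod r) + 1 = 0 := by
        nth_rewrite 1 [← h2]
        ring
      rw [one_add_one_eq_two] at h4
      exact_mod_cast h4
    rw [ZMod.natCast_eq_zero_iff] at h3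
    have := Nat.le_of_dvd two_pos h3
    omega

omit [Fintype F] in
/-- A scalar in `SL_2` in characteristic `2` is trivial. -/
theorem eq_one_of_smul (h2 : (2 : F) = 0) {A : Matrix.SpecialLinearGroup (Fin 2) F} {c : F}
    (h : A.1 = c • (1 : Matrix (Fin 2) (Fin 2) F)) : A = 1 := by
  have h1 : A.1.det = 1 := A.2
  rw [h, Matrix.det_smul, Matrix.det_one, mul_one, Fintype.card_fin] at h1
  have h3 : (c - 1) ^ 2 = 0 := by linear_combination h1 + (1 - c) * h2
  have h4 : c = 1 := sub_eq_zero.1 (pow_eq_zero_iff two_ne_zero |>.1 h3)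
  apply Subtype.ext
  rw [h, h4, one_smul]
  rfl

theorem charTwo {q : ℕ} (hF : Fintype.card F = q) (h : Even q) : (2 : F) = 0 := by
  have h1 : ringChar F = 2 := by
    by_contra hcon
    have h2 := FiniteField.odd_card_of_char_ne_two hcon
    rw [hF] at h2
    obtain ⟨k, hk⟩ := h
    omega
  have h3 : ((2 : ℕ) : F) = 0 := (ringChar.spec F 2).2 (by rw [h1])
  exact_mod_cast h3

/-- `PSL_2(q)`, `q ≥ 4` even. -/
theorem core_psl_two_even {q : ℕ} (hF : Fintype.card F = q) (hq : 4 ≤ q) (heven : Even q) :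
    Core (Matrix.ProjectiveSpecialLinearGroup (Fin 2) F) := by
  obtain ⟨k, hk⟩ := heven
  obtain ⟨r, hr, hrq⟩ := Nat.exists_prime_and_dvd (n := q + 1) (by omega)
  obtain ⟨s, hs, hsq⟩ := Nat.exists_prime_and_dvd (n := q - 1) (by omega)
  have hr2 : r ≠ 2 := by
    rintro rfl
    omega
  have hs2 : s ≠ 2 := by
    rintro rfl
    omega
  have hord := orderOf_eq_two hr hr2 hrq
  have h2F : (2 : F) = 0 := charTwo hF ⟨k, hk⟩
  have hsep : _root_.Cfsg.Agent.H518.Dghp.Sep (Matrix.SpecialLinearGroup (Fin 2) F) r s := by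
    refine sep_scalar (matRep (slHom (Fin 2) F)) (matRep_injective (slHom_injective _ _)) hr hs
      (by rw [hF]; exact not_dvd_of_orderOf hr hord two_pos) (by rwa [hF]) (d := 2) (by rw [hF, hord])
      (by rw [finrank_pi_fin, Fintype.card_fin])
      (fun h => hs2 ((Nat.prime_dvd_prime_iff_eq hs Nat.prime_two).1 h)) ?_
    intro y hy c hc
    have h1 := eq_one_of_smul h2F (matRep_eq_smul hc)
    rw [h1, orderOf_one] at hy
    exact hs.one_lt.ne hy
  have hg : Nat.gcd 2 (q - 1) = 1 := by
    rw [Nat.gcd_rec]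
    have : (q - 1) % 2 = 1 := by omega
    rw [this]
    rfl
  have hSL := pow_sub_one_dvd_card_SL (n := 2) hF (j := 2) le_rfl le_rfl
  have hfac : q ^ 2 - 1 = (q + 1) * (q - 1) := by
    have := Nat.sq_sub_sq q 1
    rwa [one_pow] at this
  have hrs : r ≠ s := by
    rintro rfl
    have h1 : r ∣ (q + 1) - (q - 1) := Nat.dvd_sub hrq hsq
    have h2 : (q + 1) - (q - 1) = 2 := by omega
    rw [h2] at h1
    exact hr2 ((Nat.prime_dvd_prime_iff_eq hr Nat.prime_two).1 h1)
  refine core_center_quotient hsep hr hs hrs (dvd_card_PSL hF le_rfl hr ?_ ?_) (dvd_card_PSL hF le_rfl hs ?_ ?_)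
  · exact (hrq.trans (Dvd.intro _ hfac.symm)).trans hSL
  · rw [hg]
    exact fun h => hr.one_lt.ne' (Nat.dvd_one.1 h)
  · exact (hsq.trans (Dvd.intro_left _ hfac.symm)).trans hSL
  · rw [hg]
    exact fun h => hs.one_lt.ne' (Nat.dvd_one.1 h)

/-- `PSL_2(q)`, `q` odd, `q + 1` not a power of two. -/
theorem core_psl_two_odd {q r : ℕ} (hF : Fintype.card F = q) (hodd : Odd q) (hr : r.Prime)
    (hr2 : r ≠ 2) (hrq : r ∣ q + 1) : Core (Matrix.ProjectiveSpecialLinearGroup (Fin 2) F) := by
  obtain ⟨k, hk⟩ := hodd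
  have hq1 : 1 < q := hF ▸ Fintype.one_lt_card
  obtain ⟨p, hp, hpq⟩ := Nat.exists_prime_and_dvd (n := q) (by omega)
  have hp2 : p ≠ 2 := by
    rintro rfl
    omega
  have hord := orderOf_eq_two hr hr2 hrq
  have hsep : _root_.Cfsg.Agent.H518.Dghp.Sep (Matrix.SpecialLinearGroup (Fin 2) F) r p :=
    sep_char (matRep (slHom (Fin 2) F)) (matRep_injective (slHom_injective _ _)) hr hp
      (by rw [hF]; exact not_dvd_of_orderOf hr hord two_pos) (by rwa [hF]) (d := 2) (by rw [hF, hord])
      (by rw [finrank_pi_fin, Fintype.card_fin]) two_pos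
      (fun h => hp2 ((Nat.prime_dvd_prime_iff_eq hp Nat.prime_two).1 h))
  have hSL := pow_sub_one_dvd_card_SL (n := 2) hF (j := 2) le_rfl le_rfl
  have hfac : q ^ 2 - 1 = (q + 1) * (q - 1) := by
    have := Nat.sq_sub_sq q 1
    rwa [one_pow] at this
  have hrp : r ≠ p := by
    rintro rfl
    have h1 : r ∣ q + 1 - q := Nat.dvd_sub hrq hpq
    rw [Nat.add_sub_cancel_left] at h1
    exact hr.one_lt.ne' (Nat.dvd_one.1 h1)
  refine core_center_quotient hsep hr hp hrp (dvd_card_PSL hF le_rfl hr ?_ ?_) (dvd_card_PSL hF le_rfl hp ?_ ?_)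
  · exact (hrq.trans (Dvd.intro _ hfac.symm)).trans hSL
  · exact fun h => hr2 ((Nat.prime_dvd_prime_iff_eq hr Nat.prime_two).1 (h.trans (Nat.gcd_dvd_left _ _)))
  · exact hpq.trans (dvd_card_SL hF le_rfl)
  · exact fun h => hp2 ((Nat.prime_dvd_prime_iff_eq hp Nat.prime_two).1 (h.trans (Nat.gcd_dvd_left _ _)))

/-- `PSL_2(q)`, `q + 1` a power of two, `q ≥ 7`. -/
theorem core_psl_two_mersenne {q k : ℕ} (hF : Fintype.card F = q) (hq4 : 4 ≤ q) (hk : q + 1 = 2 ^ k) :
    Core (Matrix.ProjectiveSpecialLinearGroup (Fin 2) F) := by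
  classical
  have hk3 : 3 ≤ k := by
    by_contra hcon
    have : 2 ^ k ≤ 2 ^ 2 := Nat.pow_le_pow_right two_pos (by omega)
    omega
  have h8 : 8 ∣ q + 1 := by
    rw [hk]
    exact pow_dvd_pow 2 hk3
  obtain ⟨n, hp, hn⟩ := FiniteField.card F (ringChar F)
  set p := ringChar F with hpdef
  have hpf : Fact p.Prime := ⟨hp⟩
  rw [hF] at hn
  have hpq : p ∣ q := by
    rw [hn]
    exact dvd_pow_self _ n.ne_zero
  have hp2 : p ≠ 2 := by
    intro h
    rw [h] at hpq
    omega
  have hp3 : p ≠ 3 := by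
    intro h
    rw [h] at hn
    have h1 : ∀ m : ℕ, 3 ^ m % 8 = 1 ∨ 3 ^ m % 8 = 3 := by
      intro m
      induction m with
      | zero => left; rfl
      | succ m ih => rw [pow_succ]; omega
    have := h1 n
    omega
  have hp4 : 4 ≤ p := by
    have := hp.two_le
    omega
  refine Core.of_subgroup (G := Matrix.ProjectiveSpecialLinearGroup (Fin 2) F) hp Nat.prime_two hp2 one_pos one_pos
    ?_ ?_ ?_
  · have h1 := dvd_card_PSL (n := 2) hF le_rfl hp (hpq.trans (dvd_card_SL hF le_rfl))
      (fun h => hp2 ((Nat.prime_dvd_prime_iff_eq hp Nat.prime_two).1 (h.trans (Nat.gcd_dvd_left _ _))))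
    obtain ⟨x, hx⟩ := exists_prime_orderOf_dvd_card' p h1
    exact ⟨x, by rw [hx, pow_one]⟩
  · have h1 : 2 ∣ Nat.card (Matrix.ProjectiveSpecialLinearGroup (Fin 2) F) := by
      have h2 := Cfsg.Agent.S0242.result hF 2 (by omega)
      have h3 := Cfsg.Agent.S0243.result hF 2 le_rfl
      have h4 : Nat.gcd 2 (q - 1) = 2 := by
        rw [Nat.gcd_eq_left]
        omega
      have h5 : q ^ 2 - 1 ∣ Nat.card (Matrix.SpecialLinearGroup (Fin 2) F) :=
        pow_sub_one_dvd_card_SL hF le_rfl le_rfl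
      rw [← h2, h4] at h3
      have h6 : 2 * Nat.card (Matrix.ProjectiveSpecialLinearGroup (Fin 2) F) =
          Nat.card (Matrix.SpecialLinearGroup (Fin 2) F) := by
        have h7 : (q - 1) * (2 * Nat.card (Matrix.ProjectiveSpecialLinearGroup (Fin 2) F)) =
            (q - 1) * Nat.card (Matrix.SpecialLinearGroup (Fin 2) F) := by
          rw [← h3]
          ring
        exact Nat.eq_of_mul_eq_mul_left (by omega) h7
      have hfac : q ^ 2 - 1 = (q + 1) * (q - 1) := by
        have := Nat.sq_sub_sq q 1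
        rwa [one_pow] at this
      have h9 : 8 ∣ Nat.card (Matrix.SpecialLinearGroup (Fin 2) F) :=
        (h8.trans (Dvd.intro _ hfac.symm)).trans h5
      omega
    have : Fact (Nat.Prime 2) := ⟨Nat.prime_two⟩
    obtain ⟨x, hx⟩ := exists_prime_orderOf_dvd_card' 2 h1
    exact ⟨x, by rw [hx, pow_one]⟩
  · rintro K hK ⟨x, hxK, hx⟩ ⟨y, hyK, hy⟩
    rw [pow_one] at hx hy
    -- the preimage in `SL_2`
    set Z := Subgroup.center (Matrix.SpecialLinearGroup (Fin 2) F)
    set π := QuotientGroup.mk' Z with hπ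
    have hπs : Function.Surjective π := QuotientGroup.mk'_surjective Z
    set H := K.comap π with hH
    have hHsol : Group.IsSolvable H := by
      have : Group.IsSolvable Z :=
        Group.isSolvable_of_comm fun a b => Subtype.ext ((Subgroup.mem_center_iff.1 b.2) a)
      refine Group.isSolvable_of_ker_le_range (G' := Z) (G'' := K)
        (Subgroup.inclusion (show Z ≤ H from fun z hz => by
          rw [hH, Subgroup.mem_comap]
          have : π z = 1 := (QuotientGroup.eq_one_iff z).2 hz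
          rw [this]
          exact K.one_mem)) (π.subgroupComap K) ?_
      intro z hz
      have hz1 : π z = 1 := congrArg Subtype.val hz
      exact ⟨⟨z, (QuotientGroup.eq_one_iff (z : Matrix.SpecialLinearGroup (Fin 2) F)).1 hz1⟩, rfl⟩
    -- orders
    have hcardH : Nat.card H = Nat.card K * Nat.card Z := by
      have h1 : (K.comap π).map π = K := Subgroup.map_comap_eq_self_of_surjective hπs K
      have h2 := Subgroup.card_mul_index (π.subgroupComap K).ker
      rw [Subgroup.index_ker] at h2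
      have h3 : (π.subgroupComap K).range = ⊤ := by
        rw [MonoidHom.range_eq_top]
        exact MonoidHom.subgroupComap_surjective_of_surjective π K hπs
      rw [h3, Subgroup.card_top] at h2
      have h4 : Nat.card (π.subgroupComap K).ker = Nat.card Z := by
        refine Nat.card_congr
          { toFun := fun z => ⟨((z : H) : Matrix.SpecialLinearGroup (Fin 2) F), by
              have hz1 : π ((z : H) : Matrix.SpecialLinearGroup (Fin 2) F) = 1 := congrArg Subtype.val z.2
              exact (QuotientGroup.eq_one_iff _).1 hz1⟩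
            invFun := fun z => ⟨⟨z, by
              rw [Subgroup.mem_comap]
              have : π z = 1 := (QuotientGroup.eq_one_iff _).2 z.2
              rw [this]
              exact K.one_mem⟩, by
                rw [MonoidHom.mem_ker]
                apply Subtype.ext
                exact (QuotientGroup.eq_one_iff _).2 z.2⟩
            left_inv := fun z => rfl
            right_inv := fun z => rfl }
      rw [h4] at h2
      rw [← h2, mul_comm]
    have hZ : Nat.card Z = 2 := by
      have h2F : (2 : F) ≠ 0 := by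
        intro h
        have h7 : p ∣ 2 := (ringChar.spec F 2).1 (by exact_mod_cast h)
        exact hp2 ((Nat.prime_dvd_prime_iff_eq hp Nat.prime_two).1 h7)
      exact Cfsg.Agent.ClassicalGeometry.PSL2Basic.card_center_SL2_odd h2F
    have hpH : p ∣ Nat.card H := by
      rw [hcardH, ← hx]
      exact Dvd.dvd.mul_right (Subgroup.orderOf_dvd_natCard K hxK) _
    have h4H : 4 ∣ Nat.card H := by
      rw [hcardH, hZ]
      have h1 : orderOf y ∣ Nat.card K := Subgroup.orderOf_dvd_natCard K hyK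
      rw [hy] at h1
      omega
    -- the Sylow subgroup of `H`
    have hsyl : ¬ 1 < Nat.card (Sylow p H) := by
      intro hlt
      have : CharP F p := ringChar.charP F
      obtain ⟨L, hL, ⟨e⟩⟩ := Cfsg.Agent.S0274.result p hp2 H hlt
      have h1 : Group.IsSolvable L :=
        Group.isSolvable_of_isSolvable_injective (f := Subgroup.inclusion hL) (Subgroup.inclusion_injective hL)
      have h2 : Group.IsSolvable (Matrix.SpecialLinearGroup (Fin 2) (ZMod p)) :=
        Group.isSolvable_of_isSolvable_injective (f := e.symm.toMonoidHom) e.symm.injective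
      refine ClassicalGeometry.PSL2Solvable.not_isSolvable_psl (ZMod p) (by rw [ZMod.card]; exact hp4) ?_
      exact Group.isSolvable_of_surjective (f := QuotientGroup.mk' _) (QuotientGroup.mk'_surjective _)
    have hsub : Subsingleton (Sylow p H) := by
      have h1 : 0 < Nat.card (Sylow p H) := Nat.card_pos
      exact (Nat.card_eq_one_iff_unique.1 (by omega)).1
    obtain ⟨P⟩ : Nonempty (Sylow p H) := inferInstance
    have hPn : (P : Subgroup H).Normal := P.normal_of_subsingleton
    refine not_four_dvd (by rw [hF]; omega) hp (by rw [hF]; exact hpq) H P P.isPGroup' ?_ h4H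
    intro hbot
    have h1 := P.dvd_card_of_dvd_card hpH
    rw [hbot, Subgroup.card_bot] at h1
    exact hp.one_lt.ne' (Nat.dvd_one.1 h1)

/-- `PSL_2(q)`, `q ≥ 4`. -/
theorem core_psl_two (hq : 4 ≤ Fintype.card F) : Core (Matrix.ProjectiveSpecialLinearGroup (Fin 2) F) := by
  obtain ⟨q, hF⟩ : ∃ q, Fintype.card F = q := ⟨_, rfl⟩
  rw [hF] at hq
  rcases Nat.even_or_odd q with h | h
  · exact core_psl_two_even hF hq h
  · by_cases h2 : ∃ r : ℕ, r.Prime ∧ r ≠ 2 ∧ r ∣ q + 1
    · obtain ⟨r, hr, hr2, hrq⟩ := h2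
      exact core_psl_two_odd hF h hr hr2 hrq
    · push Not at h2
      have h3 : q + 1 = 2 ^ (q + 1).primeFactorsList.length :=
        Nat.eq_prime_pow_of_unique_prime_dvd (by omega) (fun {d} hd hdq => by
          by_contra hne
          exact h2 d hd hne hdq)
      exact core_psl_two_mersenne hF hq h3

end

/-- **The linear groups.** -/
theorem core_isPSL {G : Type u} [Group G] (h : Cfsg.IsPSL G) : Core G := by
  obtain ⟨F, _, _, n, hn, h2, ⟨e⟩⟩ := h
  refine Core.congr e.symm ?_
  rcases Nat.lt_or_ge n 3 with h3 | h3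
  · obtain rfl : n = 2 := by omega
    exact core_psl_two (h2 rfl)
  · rcases Nat.even_or_odd n with h4 | h4
    · refine core_psl_even ?_ h4
      obtain ⟨k, hk⟩ := h4
      omega
    · exact core_psl_odd h3 h4

end Cfsg.Agent.H518.DghpMat
end

-- part: H518/DghpPSp
section
/-!
# The groups `PSp_{2m}(q)`
-/

set_option autoImplicit false

namespace Cfsg.Agent.H518.DghpMat

open Module Cfsg.Agent.H518.Dghp Cfsg.Agent.H518.DghpSep Cfsg.Agent.H518.DghpPrim

universe u v w

/-- Prime divisors of the order of the central quotient. -/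
theorem dvd_card_quot_center {G : Type u} [Group G] [Finite G] {r : ℕ} (hr : r.Prime) (h : r ∣ Nat.card G)
    (h' : ¬ r ∣ Nat.card (Subgroup.center G)) : r ∣ Nat.card (G ⧸ Subgroup.center G) := by
  rw [Subgroup.card_eq_card_quotient_mul_card_subgroup (Subgroup.center G)] at h
  exact ((Nat.Prime.dvd_mul hr).1 h).resolve_right h'

/-- A primitive prime of order at least `2` does not divide `q - 1`. -/
theorem not_dvd_pred {q r e : ℕ} (hq : 1 ≤ q) (he : orderOf (q : ZMod r) = e) (he2 : 2 ≤ e) : ¬ r ∣ q - 1 := by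
  have h1 := not_dvd_pow_sub_one (q := q) (m := 1) hq he (fun h => by
    have := Nat.le_of_dvd one_pos h
    omega)
  rwa [pow_one] at h1

/-- The inclusion of the symplectic group into matrices. -/
def spHom (m : ℕ) (F : Type u) [Field F] : Matrix.symplecticGroup (Fin m) F →* Matrix (Fin m ⊕ Fin m) (Fin m ⊕ Fin m) F where
  toFun A := A.1
  map_one' := rfl
  map_mul' _ _ := rfl

theorem spHom_injective (m : ℕ) (F : Type u) [Field F] : Function.Injective (spHom m F) := Subtype.val_injective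

section

variable {F : Type} [Field F] [Fintype F] {m q : ℕ}

/-- `q ^ (2 j) - 1` divides `|Sp_{2m}(q)|`. -/
theorem pow_sub_one_dvd_card_Sp (hF : Fintype.card F = q) {j : ℕ} (hj : 1 ≤ j) (hjm : j ≤ m) :
    q ^ (2 * j) - 1 ∣ Nat.card (Matrix.symplecticGroup (Fin m) F) := by
  rw [Cfsg.Agent.S0245.result hF m]
  refine Dvd.dvd.mul_left ?_ _
  have h1 := Finset.dvd_prod_of_mem (fun i => q ^ (2 * (i + 1)) - 1) (Finset.mem_range.2 (show j - 1 < m by omega))
  have h2 : j - 1 + 1 = j := by omega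
  rwa [h2] at h1

omit [Fintype F] in
theorem finrank_sum_fin : finrank F (Fin m ⊕ Fin m → F) = 2 * m := by
  rw [finrank_pi_fin, Fintype.card_sum, Fintype.card_fin, two_mul]

/-- `Core` for `PSp_{2m}(q)` from a pair of primitive primes. -/
theorem core_psp_of (hF : Fintype.card F = q) (hm : 1 ≤ m) {r s e f : ℕ} (hr : r.Prime) (hs : s.Prime)
    (he : orderOf (q : ZMod r) = e) (hf : orderOf (q : ZMod s) = f) (he2 : 2 ≤ e) (hf2 : 2 ≤ f)
    (hrG : r ∣ Nat.card (Matrix.symplecticGroup (Fin m) F)) (hsG : s ∣ Nat.card (Matrix.symplecticGroup (Fin m) F))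
    (h1 : 2 * m < 2 * e) (h2 : 2 * m < e + f) (h3 : ¬ f ∣ e) (h4 : ¬ s ∣ e) (h5 : ¬ r ∣ f) (h6 : 2 * m < r * f)
    (hrs : r ≠ s) : Core (Cfsg.PSp m F) := by
  have hq : 1 < q := hF ▸ Fintype.one_lt_card
  have hsep : _root_.Cfsg.Agent.H518.Dghp.Sep (Matrix.symplecticGroup (Fin m) F) r s :=
    sep_linear (matRep (spHom m F)) (matRep_injective (spHom_injective _ _)) hr hs
      (by rw [hF]; exact not_dvd_of_orderOf hr he (by omega)) (by rw [hF]; exact not_dvd_of_orderOf hs hf (by omega))
      (e := e) (f := f) (d := 2 * m) (by rw [hF, he]) (by rw [hF, hf]) finrank_sum_fin h1 h2 h3 h4 h5 h6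
  refine core_center_quotient hsep hr hs hrs (dvd_card_quot_center hr hrG ?_) (dvd_card_quot_center hs hsG ?_)
  · rw [Cfsg.Agent.S0246.result hF m hm]
    exact fun h => not_dvd_pred hq.le he he2 (h.trans (Nat.gcd_dvd_right _ _))
  · rw [Cfsg.Agent.S0246.result hF m hm]
    exact fun h => not_dvd_pred hq.le hf hf2 (h.trans (Nat.gcd_dvd_right _ _))

/-- `PSp_{2m}(q)`, `m ≥ 3`. -/
theorem core_psp_ge_three (hF : Fintype.card F = q) (hm : 3 ≤ m) : Core (Cfsg.PSp m F) := by
  have hq : 1 < q := hF ▸ Fintype.one_lt_card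
  by_cases h3 : q = 2 ∧ m = 3
  · obtain ⟨rfl, rfl⟩ := h3
    refine core_psp_of hF (by norm_num) (r := 5) (s := 7) (e := 4) (f := 3) (by norm_num) (by norm_num)
      orderOf_two_five orderOf_two_seven (by norm_num) (by norm_num) ?_ ?_ (by norm_num) (by norm_num) (by norm_num)
      (by norm_num) (by norm_num) (by norm_num) (by norm_num)
    · exact dvd_trans (by norm_num) (pow_sub_one_dvd_card_Sp hF (j := 2) (by norm_num) (by norm_num))
    · exact dvd_trans (by norm_num) (pow_sub_one_dvd_card_Sp hF (j := 3) (by norm_num) (by norm_num))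
  by_cases h4 : q = 2 ∧ m = 4
  · obtain ⟨rfl, rfl⟩ := h4
    refine core_psp_of hF (by norm_num) (r := 17) (s := 7) (e := 8) (f := 3) (by norm_num) (by norm_num)
      orderOf_two_17 orderOf_two_seven (by norm_num) (by norm_num) ?_ ?_ (by norm_num) (by norm_num) (by norm_num)
      (by norm_num) (by norm_num) (by norm_num) (by norm_num)
    · exact dvd_trans (by norm_num) (pow_sub_one_dvd_card_Sp hF (j := 4) (by norm_num) (by norm_num))
    · exact dvd_trans (by norm_num) (pow_sub_one_dvd_card_Sp hF (j := 3) (by norm_num) (by norm_num))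
  obtain ⟨r, hr, he⟩ := Lib.Zsigmondy.exists_prime_orderOf (a := q) (n := 2 * m) (by omega) (by omega)
    (fun h => by omega) (fun h => by omega)
  obtain ⟨s, hs, hf⟩ := Lib.Zsigmondy.exists_prime_orderOf (a := q) (n := 2 * (m - 1)) (by omega) (by omega)
    (fun h => by omega) (fun h => by omega)
  have hrn := lt_prime hr he (by omega)
  have hsn := lt_prime hs hf (by omega)
  refine core_psp_of hF (by omega) hr hs he hf (by omega) (by omega)
    ((dvd_pow_sub_one (by omega) he).trans (pow_sub_one_dvd_card_Sp hF (by omega) le_rfl))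
    ((dvd_pow_sub_one (by omega) hf).trans (pow_sub_one_dvd_card_Sp hF (by omega) (by omega)))
    (by omega) (by omega) ?_ ?_ ?_ ?_ ?_
  · intro h
    have h1 : 2 * (m - 1) ∣ 2 * m - 2 * (m - 1) := Nat.dvd_sub h dvd_rfl
    have h2 : 2 * m - 2 * (m - 1) = 2 := by omega
    rw [h2] at h1
    have := Nat.le_of_dvd two_pos h1
    omega
  · intro h
    have h1 : s ∣ m := by
      rcases (Nat.Prime.dvd_mul hs).1 h with h' | h'
      · have := Nat.le_of_dvd two_pos h'
        omega
      · exact h'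
    have := Nat.le_of_dvd (by omega) h1
    omega
  · intro h
    have := Nat.le_of_dvd (by omega) h
    omega
  · calc 2 * m < r := hrn
      _ = r * 1 := (mul_one r).symm
      _ ≤ r * (2 * (m - 1)) := Nat.mul_le_mul_left r (by omega)
  · intro h
    rw [h, hf] at he
    omega

/-- `PSp_4(q)`, `q` odd. -/
theorem core_psp_four_odd (hF : Fintype.card F = q) (hodd : Odd q) : Core (Cfsg.PSp 2 F) := by
  obtain ⟨k, hk⟩ := hodd
  have hq : 1 < q := hF ▸ Fintype.one_lt_card
  obtain ⟨p, hp, hpq⟩ := Nat.exists_prime_and_dvd (n := q) (by omega)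
  have hp2 : p ≠ 2 := by
    rintro rfl
    omega
  obtain ⟨r, hr, he⟩ := Lib.Zsigmondy.exists_prime_orderOf (a := q) (n := 4) (by omega) (by omega)
    (fun h => by omega) (fun h => by omega)
  have hrq : ¬ r ∣ q := not_dvd_of_orderOf hr he (by omega)
  have hsep : _root_.Cfsg.Agent.H518.Dghp.Sep (Matrix.symplecticGroup (Fin 2) F) r p :=
    sep_char (matRep (spHom 2 F)) (matRep_injective (spHom_injective _ _)) hr hp (by rwa [hF]) (by rwa [hF])
      (d := 4) (by rw [hF, he]) finrank_sum_fin (by norm_num)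
      (fun h => hp2 ((Nat.prime_dvd_prime_iff_eq hp Nat.prime_two).1 (hp.dvd_of_dvd_pow (show p ∣ 2 ^ 2 from h))))
  have hrp : r ≠ p := by
    rintro rfl
    exact hrq hpq
  refine core_center_quotient hsep hr hp hrp (dvd_card_quot_center hr ?_ ?_) (dvd_card_quot_center hp ?_ ?_)
  · exact (dvd_pow_sub_one (by omega) he).trans (pow_sub_one_dvd_card_Sp hF (j := 2) (by omega) le_rfl)
  · rw [Cfsg.Agent.S0246.result hF 2 (by omega)]
    exact fun h => not_dvd_pred hq.le he (by omega) (h.trans (Nat.gcd_dvd_right _ _))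
  · rw [Cfsg.Agent.S0245.result hF 2]
    exact Dvd.dvd.mul_right (hpq.trans (dvd_pow_self q (by norm_num))) _
  · rw [Cfsg.Agent.S0246.result hF 2 (by omega)]
    exact fun h => hp2 ((Nat.prime_dvd_prime_iff_eq hp Nat.prime_two).1 (h.trans (Nat.gcd_dvd_left _ _)))

/-- `PSp_4(q)`, `q ≥ 4` even. -/
theorem core_psp_four_even (hF : Fintype.card F = q) (hq : 4 ≤ q) (heven : Even q) : Core (Cfsg.PSp 2 F) := by
  have h2F : (2 : F) = 0 := charTwo hF heven
  obtain ⟨k, hk⟩ := heven
  obtain ⟨s, hs, hsq⟩ := Nat.exists_prime_and_dvd (n := q - 1) (by omega)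
  have hs2 : s ≠ 2 := by
    rintro rfl
    omega
  obtain ⟨r, hr, he⟩ := Lib.Zsigmondy.exists_prime_orderOf (a := q) (n := 4) (by omega) (by omega)
    (fun h => by omega) (fun h => by omega)
  have hrq : ¬ r ∣ q := not_dvd_of_orderOf hr he (by omega)
  have hsep : _root_.Cfsg.Agent.H518.Dghp.Sep (Matrix.symplecticGroup (Fin 2) F) r s := by
    refine sep_scalar (matRep (spHom 2 F)) (matRep_injective (spHom_injective _ _)) hr hs (by rwa [hF])
      (by rwa [hF]) (d := 4) (by rw [hF, he]) finrank_sum_fin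
      (fun h => hs2 ((Nat.prime_dvd_prime_iff_eq hs Nat.prime_two).1 (hs.dvd_of_dvd_pow (show s ∣ 2 ^ 2 from h)))) ?_
    intro y hy c hc
    have h1 : y.1 = c • (1 : Matrix (Fin 2 ⊕ Fin 2) (Fin 2 ⊕ Fin 2) F) := matRep_eq_smul hc
    have h2 := SymplecticGroup.mem_iff.1 y.2
    rw [h1, Matrix.smul_mul, Matrix.one_mul, Matrix.transpose_smul, Matrix.transpose_one, Matrix.mul_smul,
      Matrix.mul_one, smul_smul] at h2
    have h3 := congrFun (congrFun h2 (Sum.inr 0)) (Sum.inl 0)
    simp only [Matrix.J, _root_.Fin.isValue, _root_.Matrix.smul_apply, _root_.Matrix.fromBlocks_apply₂₁, _root_.Matrix.one_apply_eq, _root_.smul_eq_mul, _root_.mul_one] at h3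
    have h4 : (c - 1) ^ 2 = 0 := by linear_combination h3 + (1 - c) * h2F
    have h5 : c = 1 := sub_eq_zero.1 (pow_eq_zero_iff two_ne_zero |>.1 h4)
    have h6 : y = 1 := by
      apply Subtype.ext
      rw [h1, h5, one_smul]
      rfl
    rw [h6, orderOf_one] at hy
    exact hs.one_lt.ne hy
  have hg : Nat.gcd 2 (q - 1) = 1 := by
    rw [Nat.gcd_rec]
    have : (q - 1) % 2 = 1 := by omega
    rw [this]
    rfl
  have hrs : r ≠ s := by
    rintro rfl
    exact not_dvd_pred (by omega) he (by omega) hsq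
  refine core_center_quotient hsep hr hs hrs (dvd_card_quot_center hr ?_ ?_) (dvd_card_quot_center hs ?_ ?_)
  · exact (dvd_pow_sub_one (by omega) he).trans (pow_sub_one_dvd_card_Sp hF (j := 2) (by omega) le_rfl)
  · rw [Cfsg.Agent.S0246.result hF 2 (by omega), hg]
    exact fun h => hr.one_lt.ne' (Nat.dvd_one.1 h)
  · refine dvd_trans ?_ (pow_sub_one_dvd_card_Sp hF (j := 1) le_rfl (by omega))
    rw [mul_one]
    have := Nat.sq_sub_sq q 1
    rw [one_pow] at this
    rw [this]
    exact Dvd.dvd.mul_left hsq _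
  · rw [Cfsg.Agent.S0246.result hF 2 (by omega), hg]
    exact fun h => hs.one_lt.ne' (Nat.dvd_one.1 h)

end

/-- **The symplectic groups.** -/
theorem core_isPSp {G : Type u} [Group G] (h : Cfsg.IsPSp G) : Core G := by
  obtain ⟨F, _, _, m, hm, h2, ⟨e⟩⟩ := h
  refine Core.congr e.symm ?_
  obtain ⟨q, hF⟩ : ∃ q, Fintype.card F = q := ⟨_, rfl⟩
  rw [hF] at h2
  rcases Nat.lt_or_ge m 3 with h3 | h3
  · obtain rfl : m = 2 := by omega
    have h4 := h2 rfl
    rcases Nat.even_or_odd q with h5 | h5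
    · refine core_psp_four_even hF ?_ h5
      obtain ⟨k, hk⟩ := h5
      omega
    · exact core_psp_four_odd hF h5
  · exact core_psp_ge_three hF h3

end Cfsg.Agent.H518.DghpMat
end
end

-- part: H518/SUBase
section
set_option linter.all false
open scoped Cfsg.Agent.FastGrp

/-!
# Solvably unique elements: group theory

`El p y` : every solvable subgroup containing `y` has all its elements of order `p` in `⟨y⟩`.
-/

set_option autoImplicit false

namespace Cfsg.Agent.H518.SU

open Cfsg.Agent.Lib.Cores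

universe u v

/-- All elements of order `p` of a solvable group containing `y` are powers of `y`. -/
def El {K : Type*} [Group K] (p : ℕ) (y : K) : Prop :=
  ∀ M : Subgroup K, Group.IsSolvable M → y ∈ M → ∀ u ∈ M, orderOf u = p → u ∈ Subgroup.zpowers y

theorem orderOf_pow_pred {G : Type u} [Group G] {p a : ℕ} (hp : p.Prime) (ha : 1 ≤ a) {y : G}
    (hy : orderOf y = p ^ a) : orderOf (y ^ p ^ (a - 1)) = p := by
  rw [orderOf_pow' y (pow_ne_zero _ hp.ne_zero), hy, Nat.gcd_eq_right (pow_dvd_pow p (Nat.sub_le a 1)),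
    Nat.pow_div (Nat.sub_le a 1) hp.pos]
  have : a - (a - 1) = 1 := by omega
  rw [this, pow_one]

theorem zpowers_eq {G : Type u} [Group G] {p : ℕ} (hp : p.Prime) {u v : G} (hu : orderOf u = p)
    (hv : orderOf v = p) (h : u ∈ Subgroup.zpowers v) : Subgroup.zpowers u = Subgroup.zpowers v := by
  have hvf : Finite (Subgroup.zpowers v) := by
    apply Nat.finite_of_card_ne_zero
    rw [Nat.card_zpowers, hv]
    exact hp.ne_zero
  have hle : Subgroup.zpowers u ≤ Subgroup.zpowers v := by rwa [Subgroup.zpowers_le]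
  apply SetLike.coe_injective
  refine Set.eq_of_subset_of_ncard_le hle ?_ (Set.toFinite _)
  rw [← Nat.card_coe_set_eq, ← Nat.card_coe_set_eq]
  have h1 := Nat.card_zpowers u
  have h2 := Nat.card_zpowers v
  rw [hu] at h1
  rw [hv] at h2
  exact (h2.trans h1.symm).le

theorem mem_zpowers_symm {G : Type u} [Group G] {p : ℕ} (hp : p.Prime) {u v : G} (hu : orderOf u = p)
    (hv : orderOf v = p) (h : u ∈ Subgroup.zpowers v) : v ∈ Subgroup.zpowers u := by
  rw [zpowers_eq hp hu hv h]
  exact Subgroup.mem_zpowers v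

/-- Elements of order `p` of a cyclic group generated by `y`. -/
theorem zpowers_eq_of_orderOf {G : Type u} [Group G] {p a : ℕ} (hp : p.Prime) (ha : 1 ≤ a) {y u : G}
    (hy : orderOf y = p ^ a) (hu : orderOf u = p) (huy : u ∈ Subgroup.zpowers y) :
    Subgroup.zpowers u = Subgroup.zpowers (y ^ p ^ (a - 1)) := by
  refine zpowers_eq hp hu (orderOf_pow_pred hp ha hy) ?_
  obtain ⟨k, rfl⟩ := Subgroup.mem_zpowers_iff.1 huy
  have h1 : (y ^ k) ^ p = 1 := by rw [← hu, pow_orderOf_eq_one]
  rw [← zpow_natCast, ← zpow_mul, ← orderOf_dvd_iff_zpow_eq_one, hy] at h1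
  have h2 : ((p ^ (a - 1) : ℕ) : ℤ) ∣ k := by
    have h3 : p ^ a = p ^ (a - 1) * p := by rw [← pow_succ, Nat.sub_add_cancel ha]
    rw [h3, Nat.cast_mul] at h1
    exact Int.dvd_of_mul_dvd_mul_right (by exact_mod_cast hp.ne_zero) h1
  obtain ⟨m, rfl⟩ := h2
  rw [zpow_mul, zpow_natCast]
  exact Subgroup.zpow_mem _ (Subgroup.mem_zpowers _) m


/-- `El` passes to quotients by solvable normal subgroups of order prime to `p`. -/
theorem El.map {G : Type u} {K : Type v} [Group G] [Group K] {p : ℕ} (hp : p.Prime) {y : G} (h : El p y)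
    (π : G →* K) (hπ : Function.Surjective π) (hsol : Group.IsSolvable π.ker) (hker : ¬ p ∣ Nat.card π.ker) :
    El p (π y) := by
  intro M hM hyM u huM hu
  obtain ⟨g, rfl⟩ := hπ u
  set n := Nat.card π.ker with hn
  have h1 : g ^ p ∈ π.ker := by
    rw [MonoidHom.mem_ker, map_pow, ← hu, pow_orderOf_eq_one]
  have h2 : (g ^ n) ^ p = 1 := by
    rw [← pow_mul, mul_comm, pow_mul]
    have : (⟨g ^ p, h1⟩ : π.ker) ^ n = 1 := pow_card_eq_one'
    exact congrArg Subtype.val this
  have hcop : Nat.Coprime p n := (Nat.Prime.coprime_iff_not_dvd hp).2 hker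
  have h3 : orderOf (π g ^ n) = p := by
    rw [Nat.Coprime.orderOf_pow (by rw [hu]; exact hcop), hu]
  have h4 : g ^ n ≠ 1 := by
    intro h
    rw [← map_pow, h, map_one, orderOf_one] at h3
    exact hp.one_lt.ne h3
  have : Fact p.Prime := ⟨hp⟩
  have h5 : orderOf (g ^ n) = p := orderOf_eq_prime h2 h4
  have hsolM : Group.IsSolvable (M.comap π) := by
    let f : M.comap π →* M := (π.comp (M.comap π).subtype).codRestrict M (fun x => x.2)
    have hf : f.ker ≤ ((π.ker).subgroupOf (M.comap π)) := by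
      intro x hx
      rw [MonoidHom.mem_ker] at hx
      rw [Subgroup.mem_subgroupOf, MonoidHom.mem_ker]
      exact congrArg Subtype.val hx
    have hk : Group.IsSolvable f.ker := by
      exact Group.isSolvable_of_isSolvable_injective (f := (
        { toFun := fun x => ⟨x.1.1, by
            have := hf x.2
            rwa [Subgroup.mem_subgroupOf] at this⟩
          map_one' := rfl
          map_mul' := fun _ _ => rfl } : f.ker →* π.ker)) (fun a b hab => by
            apply Subtype.ext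
            apply Subtype.ext
            exact congrArg (Subtype.val : π.ker → G) hab)
    exact Group.isSolvable_of_ker_le_range (f.ker.subtype) f (by rw [Subgroup.range_subtype])
  have h6 := h (M.comap π) hsolM hyM (g ^ n) (by
    show π (g ^ n) ∈ M
    rw [map_pow]
    exact M.pow_mem huM n) h5
  obtain ⟨k, hk⟩ := Subgroup.mem_zpowers_iff.1 h6
  have h7 : π g ^ n ∈ Subgroup.zpowers (π y) := by
    refine Subgroup.mem_zpowers_iff.2 ⟨k, ?_⟩
    rw [← map_zpow, hk, map_pow]
  have hgf : π g ∈ Subgroup.zpowers (π g ^ n) := by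
    rw [mem_zpowers_pow_iff, hu]
    exact hcop.symm
  exact (Subgroup.zpowers_le.2 h7) hgf

/-- A `p`-element of the Fitting subgroup lies in the `p`-core. -/
theorem mem_pCore_of_mem_fitting {G : Type u} [Group G] [Finite G] {p : ℕ} [Fact p.Prime] {y : G} {k : ℕ}
    (hy : y ^ p ^ k = 1) (hF : y ∈ Cfsg.fittingSubgroup G) : y ∈ Cfsg.pCore p G := by
  have hnil : Group.IsNilpotent (Cfsg.fittingSubgroup G) := fittingSubgroup_isNilpotent
  have hFn : (Cfsg.fittingSubgroup G).Normal := fittingSubgroup_normal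
  set y' : Cfsg.fittingSubgroup G := ⟨y, hF⟩ with hy'
  have hP : IsPGroup p (Subgroup.zpowers y') := by
    intro g
    obtain ⟨g, hg⟩ := g
    obtain ⟨j, rfl⟩ := Subgroup.mem_zpowers_iff.1 hg
    refine ⟨k, ?_⟩
    apply Subtype.ext
    show (y' ^ j) ^ p ^ k = 1
    rw [← zpow_natCast, ← zpow_mul, mul_comm, zpow_mul, zpow_natCast]
    have : y' ^ p ^ k = 1 := Subtype.ext hy
    rw [this, one_zpow]
  obtain ⟨P, hP'⟩ := hP.exists_le_sylow
  have hPn : P.Normal := inferInstance
  have hPc : (P : Subgroup (Cfsg.fittingSubgroup G)).Characteristic := Sylow.characteristic_of_normal P inferInstance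
  have h1 : (P : Subgroup (Cfsg.fittingSubgroup G)).map (Cfsg.fittingSubgroup G).subtype ≤ Cfsg.pCore p G :=
    le_pCore inferInstance (P.isPGroup'.map _)
  exact h1 ⟨y', hP' (Subgroup.mem_zpowers y'), rfl⟩

/-- A nontrivial normalized subgroup of a finite `p`-group has a central element of order `p`. -/
theorem exists_central {G : Type u} [Group G] [Finite G] {p : ℕ} [hp : Fact p.Prime] (R N : Subgroup G)
    (hR : IsPGroup p R) (hNR : N ≤ R) (hn : ∀ g ∈ R, ∀ n ∈ N, g * n * g⁻¹ ∈ N) (hN : N ≠ ⊥) :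
    ∃ z ∈ N, orderOf z = p ∧ ∀ g ∈ R, g * z = z * g := by
  have hnil : Group.IsNilpotent R := hR.isNilpotent
  have hNn : (N.subgroupOf R).Normal := by
    constructor
    intro n hn' g
    rw [Subgroup.mem_subgroupOf] at hn' ⊢
    exact hn g g.2 n hn'
  have hNe : N.subgroupOf R ≠ ⊥ := by
    intro h
    apply hN
    rw [Subgroup.subgroupOf_eq_bot] at h
    exact disjoint_self.1 (h.mono_right hNR)
  have h1 := Cfsg.Agent.Lib.NormalAbelian.normal_inf_center_ne_bot (N.subgroupOf R) hNe
  have h2 : IsPGroup p ↥(N.subgroupOf R ⊓ Subgroup.center R) := (hR.to_subgroup _)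
  have h3 : Nat.card ↥(N.subgroupOf R ⊓ Subgroup.center R) ≠ 1 := fun h => h1 (Subgroup.card_eq_one.1 h)
  have h4 : p ∣ Nat.card ↥(N.subgroupOf R ⊓ Subgroup.center R) := h2.card_eq_or_dvd.resolve_left h3
  obtain ⟨z, hz⟩ := exists_prime_orderOf_dvd_card' p h4
  refine ⟨z.1.1, ?_, ?_, ?_⟩
  · exact Subgroup.mem_subgroupOf.1 z.2.1
  · rw [Subgroup.orderOf_coe, Subgroup.orderOf_coe, hz]
  · intro g hg
    have := Subgroup.mem_center_iff.1 z.2.2 ⟨g, hg⟩
    exact congrArg Subtype.val this

/-- An element of order `p` normalizing a subgroup of order `p` centralizes it. -/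
theorem commute_of_normalize {G : Type u} [Group G] {p : ℕ} (hp : p.Prime) {u y : G} (hu : orderOf u = p)
    (hy : orderOf y = p) (h : u * y * u⁻¹ ∈ Subgroup.zpowers y) : u * y = y * u := by
  have : Fact p.Prime := ⟨hp⟩
  have : NeZero p := ⟨hp.ne_zero⟩
  obtain ⟨n, hn⟩ := Subgroup.mem_zpowers_iff.1 h
  have hpow : ∀ i j : ℕ, y ^ i = y ^ j ↔ (i : ZMod p) = j := fun i j => by
    rw [pow_inj_mod, hy, ZMod.natCast_eq_natCast_iff']
  obtain ⟨c, hc⟩ : ∃ c : ℕ, u * y * u⁻¹ = y ^ c := by
    refine ⟨(n % p).toNat, ?_⟩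
    have h1 : 0 ≤ n % p := Int.emod_nonneg _ (by exact_mod_cast hp.ne_zero)
    rw [← hn, ← zpow_natCast, Int.toNat_of_nonneg h1, ← hy, zpow_mod_orderOf]
  have hiter : ∀ k : ℕ, u ^ k * y * (u ^ k)⁻¹ = y ^ (c ^ k) := by
    intro k
    induction k with
    | zero => simp
    | succ k ih =>
      have e : u ^ (k + 1) * y * (u ^ (k + 1))⁻¹ = u * (u ^ k * y * (u ^ k)⁻¹) * u⁻¹ := by
        rw [pow_succ']; group
      rw [e, ih]
      have e2 : u * y ^ (c ^ k) * u⁻¹ = (u * y * u⁻¹) ^ (c ^ k) := conj_pow.symm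
      rw [e2, hc, ← pow_mul, pow_succ']
  have hcs : (c : ZMod p) ^ p = 1 := by
    have h1 := hiter p
    rw [← hu, pow_orderOf_eq_one, hu] at h1
    have h2 : y ^ (c ^ p) = y ^ 1 := by rw [← h1]; simp
    rw [hpow] at h2
    push_cast at h2
    exact h2
  rw [ZMod.pow_card] at hcs
  have h2 : y ^ c = y ^ 1 := by
    rw [hpow, hcs, Nat.cast_one]
  rw [pow_one] at h2
  rw [h2] at hc
  exact mul_inv_eq_iff_eq_mul.1 hc

/-- **The group theoretic core.** -/
theorem solv_unique {G : Type u} [Group G] [Finite G] [Group.IsSolvable G] {p a : ℕ} (hp : p.Prime) (ha : 1 ≤ a)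
    {y : G} (hy : orderOf y = p ^ a)
    (h1 : ∀ t : ℕ, t.Prime → t ≠ p → ∀ T : Subgroup G, T.Normal → IsPGroup t T →
      ∀ u ∈ T, y ^ p ^ (a - 1) * u = u * y ^ p ^ (a - 1))
    (h2 : ∀ u v : G, orderOf u = p → orderOf v = p → u * v = v * u → v ∈ Subgroup.zpowers u) :
    ∀ u : G, orderOf u = p → u ∈ Subgroup.zpowers y := by
  have hpf : Fact p.Prime := ⟨hp⟩
  set y1 := y ^ p ^ (a - 1) with hy1def
  have hy1 : orderOf y1 = p := orderOf_pow_pred hp ha hy
  have hy1y : y1 ∈ Subgroup.zpowers y := Subgroup.pow_mem _ (Subgroup.mem_zpowers y) _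
  have hcore : y1 ∈ Cfsg.pCore p G := by
    by_cases hc : ∀ u ∈ Cfsg.pCore p G, y1 * u = u * y1
    · refine mem_pCore_of_mem_fitting (k := 1) (by rw [pow_one, ← hy1, pow_orderOf_eq_one]) ?_
      apply Cfsg.Agent.S0044.result
      rw [fittingSubgroup_eq_iSup_pCore, Subgroup.mem_centralizer_iff]
      intro u hu
      have hle : (⨆ t : Nat.Primes, Cfsg.pCore (t : ℕ) G) ≤ Subgroup.centralizer {y1} := by
        refine iSup_le fun t => ?_
        intro u hu
        rw [Subgroup.mem_centralizer_singleton_iff]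
        by_cases htp : (t : ℕ) = p
        · exact (hc u (htp ▸ hu)).symm
        · exact (h1 t t.2 htp _ (pCore_normal _) (pCore_isPGroup _) u hu).symm
      exact (Subgroup.mem_centralizer_singleton_iff.1 (hle hu))
    · push Not at hc
      obtain ⟨u, hu, hne⟩ := hc
      -- the `p`-group generated by `O_p(G)` and `y`
      obtain ⟨z, hz, hzo, hzc⟩ := exists_central (Cfsg.pCore p G ⊔ Subgroup.zpowers y) (Cfsg.pCore p G)
        (IsPGroup.to_sup_of_normal_left (pCore_isPGroup p) (IsPGroup.of_card (n := a) (by rw [Nat.card_zpowers, hy])))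
        le_sup_left (fun g _ n hn => (pCore_normal p).conj_mem n hn g) (by
          intro h
          rw [h, Subgroup.mem_bot] at hu
          rw [hu, mul_one, one_mul] at hne
          exact hne rfl)
      have h3 := h2 z y1 hzo hy1 (hzc y1 ((le_sup_right : Subgroup.zpowers y ≤ _) hy1y)).symm
      exact (Subgroup.zpowers_le.2 hz) h3
  -- a central element of `O_p(G)`
  obtain ⟨z, hz, hzo, hzc⟩ := exists_central (Cfsg.pCore p G) (Cfsg.pCore p G) (pCore_isPGroup p) le_rfl
    (fun g _ n hn => (pCore_normal p).conj_mem n hn g) (by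
      intro h
      rw [h, Subgroup.mem_bot] at hcore
      rw [hcore, orderOf_one] at hy1
      exact hp.one_lt.ne hy1)
  have huniq : ∀ u ∈ Cfsg.pCore p G, orderOf u = p → u ∈ Subgroup.zpowers y1 := by
    intro u hu huo
    have h3 := h2 z u hzo huo (hzc u hu).symm
    have h4 := mem_zpowers_symm hp hy1 hzo (h2 z y1 hzo hy1 (hzc y1 hcore).symm)
    exact (Subgroup.zpowers_le.2 h4) h3
  intro u hu
  have h3 : u * y1 * u⁻¹ ∈ Subgroup.zpowers y1 := by
    refine huniq _ ((pCore_normal p).conj_mem y1 hcore u) ?_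
    rw [← MulAut.conj_apply, MulEquiv.orderOf_eq, hy1]
  have h4 := commute_of_normalize hp hu hy1 h3
  have h5 := h2 y1 u hy1 hu h4.symm
  exact (Subgroup.zpowers_le.2 hy1y) h5

/-- The order of the image under a homomorphism with kernel of order prime to `p`. -/
theorem orderOf_map {G : Type u} {K : Type v} [Group G] [Group K] {p a : ℕ} (hp : p.Prime) {y : G}
    (hy : orderOf y = p ^ a) (π : G →* K) (hker : ¬ p ∣ Nat.card π.ker) : orderOf (π y) = p ^ a := by
  have h1 : orderOf (π y) ∣ p ^ a := by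
    rw [orderOf_dvd_iff_pow_eq_one, ← map_pow, ← hy, pow_orderOf_eq_one, map_one]
  obtain ⟨b, hb, hb'⟩ := (Nat.dvd_prime_pow hp).1 h1
  have h2 : y ^ p ^ b ∈ π.ker := by rw [MonoidHom.mem_ker, map_pow, ← hb', pow_orderOf_eq_one]
  have h3 : (y ^ p ^ b) ^ Nat.card π.ker = 1 := by
    have : (⟨y ^ p ^ b, h2⟩ : π.ker) ^ Nat.card π.ker = 1 := pow_card_eq_one'
    exact congrArg Subtype.val this
  rw [← pow_mul, ← orderOf_dvd_iff_pow_eq_one, hy] at h3
  have h4 : p ^ a ∣ p ^ b :=
    Nat.Coprime.dvd_of_dvd_mul_right (Nat.Coprime.pow_left a ((Nat.Prime.coprime_iff_not_dvd hp).2 hker)) h3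
  rw [hb']
  exact Nat.dvd_antisymm (pow_dvd_pow p hb) h4

/-- Two subgroups of order `p` of a solvable group containing `y` are equal. -/
theorem El.eq_of_card {K : Type u} [Group K] {p a : ℕ} (hp : p.Prime) (ha : 1 ≤ a) {y : K} (hy : orderOf y = p ^ a)
    (h : El p y) (M : Subgroup K) (hM : Group.IsSolvable M) (hyM : y ∈ M) (A B : Subgroup K) (hA : A ≤ M)
    (hB : B ≤ M) (hA' : Nat.card A = p) (hB' : Nat.card B = p) : A = B := by
  have hpf : Fact p.Prime := ⟨hp⟩
  have key : ∀ C : Subgroup K, C ≤ M → Nat.card C = p → C = Subgroup.zpowers (y ^ p ^ (a - 1)) := by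
    intro C hC hC'
    have hfin : Finite C := Nat.finite_of_card_ne_zero (by rw [hC']; exact hp.ne_zero)
    obtain ⟨c, hc⟩ := exists_prime_orderOf_dvd_card' (G := C) p (by rw [hC'])
    have hc' : orderOf (c : K) = p := by rw [Subgroup.orderOf_coe, hc]
    have h1 := h M hM hyM c (hC c.2) hc'
    rw [← zpowers_eq_of_orderOf hp ha hy hc' h1]
    symm
    apply SetLike.coe_injective
    have hle : Subgroup.zpowers (c : K) ≤ C := by
      rw [Subgroup.zpowers_le]
      exact c.2
    refine Set.eq_of_subset_of_ncard_le hle ?_ (Set.toFinite _)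
    rw [← Nat.card_coe_set_eq, ← Nat.card_coe_set_eq]
    have h2 := Nat.card_zpowers (c : K)
    rw [hc'] at h2
    exact (hC'.trans h2.symm).le
  rw [key A hA hA', key B hB hB']

end Cfsg.Agent.H518.SU
end

-- part: H518/SULin
section
set_option linter.all false
open scoped Cfsg.Agent.FastGrp

/-!
# Solvably unique elements: linear groups
-/

set_option autoImplicit false

namespace Cfsg.Agent.H518.SU

open Module Cfsg.Agent.H518.DghpFix Finset

universe u v w

section

variable {F : Type u} [Field F] {V : Type v} [AddCommGroup V] [Module F V]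

/-- The sum over the powers is fixed. -/
theorem sum_pow_mem_fixS {g : V →ₗ[F] V} {r : ℕ} (hg : g ^ r = 1) (v : V) :
    (∑ j ∈ range r, (g ^ j) v) ∈ fixS g := by
  rw [mem_fixS, map_sum]
  have h1 : ∀ j, g ((g ^ j) v) = (g ^ (j + 1)) v := fun j => by rw [pow_succ', Module.End.mul_apply]
  simp only [h1]
  have h2 := Finset.sum_range_succ' (fun j => (g ^ j) v) r
  have h3 := Finset.sum_range_succ (fun j => (g ^ j) v) r
  rw [hg, pow_zero] at *
  rw [h2] at h3
  exact add_right_cancel h3

variable [Fintype F] [FiniteDimensional F V]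

/-- Fixed spaces of commuting elements. -/
theorem fix_le {g h : V →ₗ[F] V} {r : ℕ} (hr : r.Prime) (hrF : ¬ r ∣ Fintype.card F) (hg : g ^ r = 1) (hg1 : g ≠ 1)
    (hh : h ^ r = 1) (hgh : g * h = h * g) (h2e : finrank F V < 2 * orderOf ((Fintype.card F : ℕ) : ZMod r)) :
    fixS g ≤ fixS h := by
  obtain ⟨e, he⟩ : ∃ e, orderOf ((Fintype.card F : ℕ) : ZMod r) = e := ⟨_, rfl⟩
  obtain ⟨d, hd⟩ : ∃ d, finrank F V = d := ⟨_, rfl⟩
  rw [he, hd] at h2e
  have hg' : g ^ r ^ 1 = 1 := by rw [pow_one, hg]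
  have hh' : h ^ r ^ 1 = 1 := by rw [pow_one, hh]
  have htop : finrank F (⊤ : Submodule F V) = d := by rw [finrank_top, hd]
  have hcx : finrank F (fixS g) < d := by
    rw [← hd]
    refine lt_of_le_of_ne (Submodule.finrank_le _) fun h => hg1 ?_
    exact fixS_eq_top_iff.1 (Submodule.eq_top_of_finrank_eq h)
  have h1 := finrank_fix hr hrF hg' ⊤ (fun _ _ => trivial)
  rw [top_inf_eq, htop, he] at h1
  have h3 : finrank F (fixS g) + e ≤ d := by
    have := Nat.le_of_dvd (by omega) h1
    omega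
  have h4 := finrank_fix hr hrF hh' (fixS g) (fixS_invariant hgh)
  rw [he] at h4
  have h5 : finrank F ↥(fixS g ⊓ fixS h) ≤ finrank F (fixS g) := Submodule.finrank_mono inf_le_left
  have h6 : finrank F ↥(fixS g ⊓ fixS h) = finrank F (fixS g) := by
    by_contra hne
    have := Nat.le_of_dvd (by omega) h4
    omega
  exact inf_eq_left.1 (Submodule.eq_of_le_of_finrank_eq inf_le_left h6)

/-- Commuting elements of order `r`. -/
theorem pow_of_commuting {x z : V →ₗ[F] V} {r : ℕ} (hr : r.Prime) (hrF : ¬ r ∣ Fintype.card F) (hx : x ^ r = 1)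
    (hx1 : x ≠ 1) (hz : z ^ r = 1) (hxz : x * z = z * x)
    (h2e : finrank F V < 2 * orderOf ((Fintype.card F : ℕ) : ZMod r)) : ∃ i : ℕ, z = x ^ i := by
  by_contra hcon
  push Not at hcon
  have hz1 : z ≠ 1 := by
    have := hcon 0
    rwa [pow_zero] at this
  have hc : Commute x z := hxz
  have hrF' : (r : F) ≠ 0 := by
    intro h
    apply hrF
    obtain ⟨n, hp, hn⟩ := FiniteField.card F (ringChar F)
    have h1 : ringChar F ∣ r := (ringChar.spec F r).1 h
    have h2 := (Nat.prime_dvd_prime_iff_eq hp hr).1 h1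
    rw [hn, ← h2]
    exact dvd_pow_self _ n.ne_zero
  -- the fixed space of `x` and `z`
  set C : Submodule F V := fixS x ⊓ fixS z with hC
  have hle : ∀ g : V →ₗ[F] V, g ^ r = 1 → g ≠ 1 → g * x = x * g → g * z = z * g → fixS g ≤ C := fun g hg hg1 hgx hgz =>
    le_inf (fix_le hr hrF hg hg1 hx hgx h2e) (fix_le hr hrF hg hg1 hz hgz h2e)
  have hCx : ∀ (j : ℕ), ∀ v ∈ C, (x ^ j) v ∈ C := by
    intro j
    induction j with
    | zero => intro v hv; simpa using hv
    | succ j ih =>
      intro v hv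
      rw [pow_succ', Module.End.mul_apply]
      have h1 := ih v hv
      have h2 : x ((x ^ j) v) = (x ^ j) v := h1.1
      rw [h2]
      exact h1
  have hA : ∀ i, ∀ v, (∑ j ∈ range r, ((x * z ^ i) ^ j) v) ∈ C := by
    intro i v
    have hci : Commute x (z ^ i) := hc.pow_right i
    have h1 : (x * z ^ i) ^ r = 1 := by
      rw [hci.mul_pow, hx, one_mul, ← pow_mul, mul_comm, pow_mul, hz, one_pow]
    refine hle _ h1 ?_ ?_ ?_ (sum_pow_mem_fixS h1 v)
    · intro h2
      -- `x` is a power of `z`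
      have h3 : x = z ^ (i * (r - 1)) := by
        have h4 : z ^ i * z ^ (i * (r - 1)) = 1 := by
          rw [← pow_add]
          have : i + i * (r - 1) = r * i := by
            obtain ⟨k, hk⟩ : ∃ k, r = k + 1 := ⟨r - 1, (Nat.sub_add_cancel hr.one_lt.le).symm⟩
            rw [hk, Nat.add_sub_cancel]
            ring
          rw [this, pow_mul, hz, one_pow]
        calc x = x * (z ^ i * z ^ (i * (r - 1))) := by rw [h4, mul_one]
          _ = (x * z ^ i) * z ^ (i * (r - 1)) := by rw [mul_assoc]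
          _ = z ^ (i * (r - 1)) := by rw [h2, one_mul]
      set n := i * (r - 1) with hn
      have h5 : ¬ r ∣ n := by
        rintro ⟨k, hk⟩
        rw [hk, pow_mul, hz, one_pow] at h3
        exact hx1 h3
      have hcop : Nat.Coprime n r := ((Nat.Prime.coprime_iff_not_dvd hr).2 h5).symm
      obtain ⟨m, hm⟩ := Nat.exists_mul_mod_eq_one_of_coprime hcop hr.one_lt
      have h6 : z ^ (n * m) = z := by
        have h7 : n * m = r * (n * m / r) + 1 := by
          have := Nat.div_add_mod (n * m) r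
          omega
        rw [h7, pow_add, pow_mul, hz, one_pow, one_mul, pow_one]
      exact hcon m (by rw [h3, ← pow_mul, h6])
    · rw [mul_assoc, hci.eq.symm]
    · rw [mul_assoc, ((Commute.refl z).pow_left i).eq, ← mul_assoc, hxz, mul_assoc]
  have hB : ∀ j, 0 < j → j < r → ∀ v, (∑ i ∈ range r, ((z ^ j) ^ i) v) ∈ C := by
    intro j hj hjr v
    have h1 : (z ^ j) ^ r = 1 := by rw [← pow_mul, mul_comm, pow_mul, hz, one_pow]
    refine hle _ h1 ?_ ?_ ?_ (sum_pow_mem_fixS h1 v)
    · intro h2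
      have h5 : ¬ r ∣ j := fun h => by
        have := Nat.le_of_dvd hj h
        omega
      have hcop : Nat.Coprime j r := ((Nat.Prime.coprime_iff_not_dvd hr).2 h5).symm
      obtain ⟨m, hm⟩ := Nat.exists_mul_mod_eq_one_of_coprime hcop hr.one_lt
      have h6 : z ^ (j * m) = z := by
        have h7 : j * m = r * (j * m / r) + 1 := by
          have := Nat.div_add_mod (j * m) r
          omega
        rw [h7, pow_add, pow_mul, hz, one_pow, one_mul, pow_one]
      rw [pow_mul, h2, one_pow] at h6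
      exact hz1 h6.symm
    · exact (hc.symm.pow_left j).eq
    · exact ((Commute.refl z).pow_left j).eq
  have hall : ∀ v, v ∈ C := by
    intro v
    have h1 : (∑ i ∈ range r, ∑ j ∈ range r, ((x * z ^ i) ^ j) v) ∈ C := Submodule.sum_mem _ fun i _ => hA i v
    rw [Finset.sum_comm] at h1
    obtain ⟨r', hr'⟩ : ∃ k, r = k + 1 := ⟨r - 1, (Nat.sub_add_cancel hr.one_lt.le).symm⟩
    have h2 : (∑ j ∈ range r, ∑ i ∈ range r, ((x * z ^ i) ^ j) v) =
        (∑ j ∈ range r', ∑ i ∈ range r, ((x * z ^ i) ^ (j + 1)) v) + (r : F) • v := by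
      conv_lhs => rw [show range r = range (r' + 1) by rw [hr']]
      rw [Finset.sum_range_succ']
      rw [← hr']
      congr 1
      simp only [pow_zero, Module.End.one_apply, Finset.sum_const, Finset.card_range]
      rw [Nat.cast_smul_eq_nsmul]
    have h3 : (∑ j ∈ range r', ∑ i ∈ range r, ((x * z ^ i) ^ (j + 1)) v) ∈ C := by
      refine Submodule.sum_mem _ fun j hj => ?_
      have hj' : j + 1 < r := by
        have := Finset.mem_range.1 hj
        omega
      have h4 : (∑ i ∈ range r, ((x * z ^ i) ^ (j + 1)) v) = (x ^ (j + 1)) (∑ i ∈ range r, ((z ^ (j + 1)) ^ i) v) := by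
        rw [map_sum]
        refine Finset.sum_congr rfl fun i _ => ?_
        rw [(hc.pow_right i).mul_pow, Module.End.mul_apply, ← pow_mul, ← pow_mul, mul_comm i (j + 1)]
      rw [h4]
      exact hCx _ _ (hB (j + 1) (by omega) hj' v)
    rw [h2] at h1
    have h4 := (Submodule.add_mem_iff_right _ h3).1 h1
    exact (Submodule.smul_mem_iff _ hrF').1 h4
  apply hx1
  ext v
  exact (hall v).1

variable {G : Type w} [Group G] [Finite G]

/-- **Solvably unique elements of linear groups.** -/
theorem el_of_rep (φ : G →* (V →ₗ[F] V)) (hφ : Function.Injective φ) {p a : ℕ} (hp : p.Prime) (ha : 1 ≤ a)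
    (hpF : ¬ p ∣ Fintype.card F) (h2e : finrank F V < 2 * orderOf ((Fintype.card F : ℕ) : ZMod p)) {y : G}
    (hy : orderOf y = p ^ a)
    (hcent : ∀ (T : Subgroup G) (t : ℕ), t.Prime → t ≠ p → ¬ t ∣ Fintype.card F → IsPGroup t T →
      (∀ u ∈ T, y * u * y⁻¹ ∈ T) → ∀ u ∈ T, y ^ p ^ (a - 1) * u = u * y ^ p ^ (a - 1))
    (hcore : ∀ M : Subgroup G, Group.IsSolvable M → y ∈ M → ∀ ℓ : ℕ, ℓ.Prime → ℓ ∣ Fintype.card F →
      ∀ P : Subgroup G, P ≤ M → (∀ g ∈ M, ∀ n ∈ P, g * n * g⁻¹ ∈ P) → IsPGroup ℓ P → P = ⊥) : El p y := by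
  intro M hM hyM u huM hu
  have hy' : orderOf (⟨y, hyM⟩ : M) = p ^ a := by rw [Subgroup.orderOf_mk, hy]
  have hpow : ((⟨y, hyM⟩ : M) ^ p ^ (a - 1) : M).1 = y ^ p ^ (a - 1) := rfl
  have key := solv_unique (G := M) hp ha hy' (fun t ht htp T hT hTt u hu => ?_) (fun u v hu hv huv => ?_)
    ⟨u, huM⟩ (by rw [Subgroup.orderOf_mk, hu])
  · obtain ⟨k, hk⟩ := Subgroup.mem_zpowers_iff.1 key
    refine Subgroup.mem_zpowers_iff.2 ⟨k, ?_⟩
    exact congrArg Subtype.val hk
  · have hTy : ∀ u ∈ T.map M.subtype, y * u * y⁻¹ ∈ T.map M.subtype := by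
      rintro _ ⟨u, hu, rfl⟩
      exact ⟨(⟨y, hyM⟩ * u * ⟨y, hyM⟩⁻¹ :), hT.conj_mem u hu _, rfl⟩
    by_cases htF : t ∣ Fintype.card F
    · have h1 := hcore M hM hyM t ht htF (T.map M.subtype) (by
        rintro _ ⟨u, hu, rfl⟩
        exact u.2) (by
        rintro g hg _ ⟨u, hu, rfl⟩
        exact ⟨(⟨g, hg⟩ * u * ⟨g, hg⟩⁻¹ :), hT.conj_mem u hu _, rfl⟩) (hTt.map _)
      have h2 : (u : G) ∈ T.map M.subtype := ⟨u, hu, rfl⟩
      rw [h1, Subgroup.mem_bot] at h2
      have h3 : u = 1 := Subtype.ext h2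
      rw [h3, mul_one, one_mul]
    · have h1 := hcent (T.map M.subtype) t ht htp htF (hTt.map _) hTy u ⟨u, hu, rfl⟩
      exact Subtype.ext h1
  · have hx : φ u ^ p = 1 := by
      rw [← map_pow, ← hu, ← Subgroup.orderOf_coe, pow_orderOf_eq_one, map_one]
    have hz : φ v ^ p = 1 := by
      rw [← map_pow, ← hv, ← Subgroup.orderOf_coe, pow_orderOf_eq_one, map_one]
    have hx1 : φ u ≠ 1 := by
      intro h
      have h1 : (u : G) = 1 := hφ (by rw [h, map_one])
      rw [← Subgroup.orderOf_coe, h1, orderOf_one] at hu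
      exact hp.one_lt.ne hu
    obtain ⟨i, hi⟩ := pow_of_commuting hp hpF hx hx1 hz (by
      rw [← map_mul, ← map_mul]
      congr 1
      exact congrArg Subtype.val huv) h2e
    have h1 : (v : G) = (u : G) ^ i := hφ (by rw [hi, map_pow])
    have h2 : v = u ^ i := Subtype.ext h1
    rw [h2]
    exact Subgroup.pow_mem _ (Subgroup.mem_zpowers u) i

/-- The fixed space of a subgroup. -/
def fixSub (φ : G →* (V →ₗ[F] V)) (P : Subgroup G) : Submodule F V where
  carrier := {v | ∀ m ∈ P, φ m v = v}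
  zero_mem' := fun m _ => map_zero _
  add_mem' := fun {a b} ha hb m hm => by rw [map_add, ha m hm, hb m hm]
  smul_mem' := fun c a ha m hm => by rw [map_smul, ha m hm]

omit [Fintype F] [FiniteDimensional F V] [Finite G] in
/-- The fixed space of a subgroup is invariant under elements normalizing the subgroup. -/
theorem fixSub_invariant {φ : G →* (V →ₗ[F] V)} {P : Subgroup G} {g : G} (hg : ∀ n ∈ P, g⁻¹ * n * g ∈ P) :
    ∀ v ∈ fixSub φ P, φ g v ∈ fixSub φ P := by
  intro v hv m hm
  have h1 : m * g = g * (g⁻¹ * m * g) := by group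
  have h3 : φ m (φ g v) = φ (m * g) v := by rw [map_mul]; rfl
  rw [h3, h1, map_mul, Module.End.mul_apply, hv _ (hg m hm)]

omit [Finite G] in
/-- A subgroup of characteristic power order has nonzero fixed points on nonzero invariant subspaces. -/
theorem fixSub_inf_ne_bot (φ : G →* (V →ₗ[F] V)) {P : Subgroup G} {ℓ : ℕ} (hℓ : ℓ.Prime) (hℓF : ℓ ∣ Fintype.card F)
    (hP : IsPGroup ℓ P) (W : Submodule F V) (hW : ∀ m ∈ P, ∀ v ∈ W, φ m v ∈ W) (hW0 : W ≠ ⊥) :
    W ⊓ fixSub φ P ≠ ⊥ := by
  intro hbot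
  have : Finite F := Finite.of_fintype F
  have : Finite V := Module.finite_of_finite F
  have hpf : Fact ℓ.Prime := ⟨hℓ⟩
  let _ : MulAction P W :=
    { smul := fun m v => ⟨φ m v, hW m m.2 v v.2⟩
      one_smul := fun v => Subtype.ext (by
        show φ ((1 : P) : G) v = v
        rw [Subgroup.coe_one, map_one]
        rfl)
      mul_smul := fun a b v => Subtype.ext (by
        show φ ((a * b : P) : G) v = φ a (φ b v)
        rw [Subgroup.coe_mul, map_mul]
        rfl) }
  have hdvd : ℓ ∣ Nat.card W := by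
    rw [Module.natCard_eq_pow_finrank (K := F) (V := W), Nat.card_eq_fintype_card]
    exact dvd_pow hℓF fun h => hW0 (Submodule.finrank_eq_zero.1 h)
  have h0 : (0 : W) ∈ MulAction.fixedPoints P W := fun m => Subtype.ext (map_zero (φ m))
  obtain ⟨b, hb, hb0⟩ := hP.exists_fixed_point_of_prime_dvd_card_of_fixed_point W hdvd h0
  have h1 : (b : V) ∈ W ⊓ fixSub φ P := ⟨b.2, fun m hm => congrArg Subtype.val (hb ⟨m, hm⟩)⟩
  rw [hbot, Submodule.mem_bot] at h1
  exact hb0 (Subtype.ext h1.symm)

omit [Fintype F] [FiniteDimensional F V] [Finite G] in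
theorem eq_bot_of_fixSub (φ : G →* (V →ₗ[F] V)) (hφ : Function.Injective φ) {P : Subgroup G}
    (h : fixSub φ P = ⊤) : P = ⊥ := by
  rw [Subgroup.eq_bot_iff_forall]
  intro m hm
  apply hφ
  rw [map_one]
  ext v
  have h1 : v ∈ fixSub φ P := by rw [h]; trivial
  exact h1 m hm

/-- The irreducible case. -/
theorem core_irred (φ : G →* (V →ₗ[F] V)) (hφ : Function.Injective φ) {p a : ℕ} (hp : p.Prime)
    (hpF : ¬ p ∣ Fintype.card F) (he : orderOf ((Fintype.card F : ℕ) : ZMod p) = finrank F V) {y : G}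
    (ha : 1 ≤ a) (hy : orderOf y = p ^ a) : ∀ M : Subgroup G, Group.IsSolvable M → y ∈ M → ∀ ℓ : ℕ, ℓ.Prime →
      ℓ ∣ Fintype.card F →
      ∀ P : Subgroup G, P ≤ M → (∀ g ∈ M, ∀ n ∈ P, g * n * g⁻¹ ∈ P) → IsPGroup ℓ P → P = ⊥ := by
  intro M _ hyM ℓ hℓ hℓF P hPM hn hP
  have hx : φ y ^ p ^ a = 1 := by rw [← map_pow, ← hy, pow_orderOf_eq_one, map_one]
  have hx1 : φ y ≠ 1 := by
    intro h
    have h1 : y = 1 := hφ (by rw [h, map_one])
    rw [h1, orderOf_one] at hy
    exact (Nat.one_lt_pow (by omega) hp.one_lt).ne hy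
  have hV : (⊤ : Submodule F V) ≠ ⊥ := by
    intro h
    apply hx1
    ext v
    have hv : v ∈ (⊤ : Submodule F V) := trivial
    rw [h, Submodule.mem_bot] at hv
    rw [hv, map_zero, map_zero]
  have h1 := fixSub_inf_ne_bot φ hℓ hℓF hP ⊤ (fun _ _ _ _ => trivial) hV
  rw [top_inf_eq] at h1
  have h2 : ∀ n ∈ P, y⁻¹ * n * y ∈ P := by
    intro n hn'
    have := hn y⁻¹ (M.inv_mem hyM) n hn'
    rwa [inv_inv] at this
  exact eq_bot_of_fixSub φ hφ ((invariant_eq hp hpF hx hx1 he _ (fixSub_invariant h2)).resolve_left h1)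

end

end Cfsg.Agent.H518.SU
end
end
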