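import Mathlib
import Cfsg.Agent.H518.DghpPSU
import Cfsg.Agent.S0292
import Cfsg.Agent.S0293
import Cfsg.Agent.S0294
import Cfsg.Agent.Prune
set_option linter.all false
prune_inst 0x7f00000000000000000000000000000000000000000000000000000000000000000000000000000000000000000000000000000000000000000000000000000000000000000000000000000000000000003fffffffffffffffffffffffffffbeffbdffffffff
open scoped Cfsg.Agent.FastGrp

/-!
# The orthogonal groups, except `PΩ⁺₈(2)`
-/

set_option autoImplicit false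

namespace Cfsg.Agent.H518.DghpMat

open Module Cfsg.Agent.H518.Dghp Cfsg.Agent.H518.DghpSep Cfsg.Agent.H518.DghpPrim

universe u v w

section

variable {ι : Type} [Fintype ι] [DecidableEq ι] {F : Type} [Field F]

/-- The inclusion of `Ω(Q)` into matrices. -/
def omHom (Q : (ι → F) → F) : Cfsg.Omega F Q →* Matrix ι ι F :=
  ((Units.coeHom (Matrix ι ι F)).comp (Cfsg.isometryGroup F Q).subtype).comp (Cfsg.Omega F Q).subtype

theorem omHom_injective (Q : (ι → F) → F) : Function.Injective (omHom Q) :=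
  (Units.val_injective.comp (Cfsg.isometryGroup F Q).subtype_injective).comp (Cfsg.Omega F Q).subtype_injective

variable [Fintype F] {q : ℕ}

/-- `Core` for `PΩ(Q)` from a pair of primitive primes. -/
theorem core_orth (Q : (ι → F) → F) (hF : Fintype.card F = q) {d : ℕ} (hd : Fintype.card ι = d) {r s e f : ℕ}
    (hr : r.Prime) (hs : s.Prime) (he : orderOf (q : ZMod r) = e) (hf : orderOf (q : ZMod s) = f) (he2 : 2 ≤ e)
    (hf2 : 2 ≤ f) (hrG : r ∣ Nat.card (Cfsg.POmega F Q)) (hsG : s ∣ Nat.card (Cfsg.POmega F Q))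
    (h1 : d < 2 * e) (h2 : d < e + f) (h3 : ¬ f ∣ e) (h4 : ¬ s ∣ e) (h5 : ¬ r ∣ f) (h6 : d < r * f)
    (hrs : r ≠ s) : Core (Cfsg.POmega F Q) := by
  have hsep : Sep (Cfsg.Omega F Q) r s :=
    sep_linear (matRep (omHom Q)) (matRep_injective (omHom_injective _)) hr hs
      (by rw [hF]; exact not_dvd_of_orderOf hr he (by omega)) (by rw [hF]; exact not_dvd_of_orderOf hs hf (by omega))
      (e := e) (f := f) (d := d) (by rw [hF, he]) (by rw [hF, hf]) (by rw [finrank_pi_fin, hd]) h1 h2 h3 h4 h5 h6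
  exact core_center_quotient hsep hr hs hrs hrG hsG

end

/-- An odd prime dividing `g * n`, `g ∣ 4`, divides `n`. -/
theorem dvd_of_dvd_four_mul {r g n : ℕ} (hr : r.Prime) (hr2 : r ≠ 2) (hg : g ∣ 4) (h : r ∣ g * n) : r ∣ n := by
  refine ((Nat.Prime.dvd_mul hr).1 h).resolve_left fun h' => hr2 ?_
  exact (Nat.prime_dvd_prime_iff_eq hr Nat.prime_two).1 (hr.dvd_of_dvd_pow (show r ∣ 2 ^ 2 from h'.trans hg))

section

variable {F : Type} [Field F] [Fintype F] {q m : ℕ}

theorem dvd_prod_factor {k j : ℕ} (hj : 1 ≤ j) (hjk : j ≤ k) :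
    q ^ (2 * j) - 1 ∣ ∏ i ∈ Finset.range k, (q ^ (2 * (i + 1)) - 1) := by
  have h1 := Finset.dvd_prod_of_mem (fun i => q ^ (2 * (i + 1)) - 1) (Finset.mem_range.2 (show j - 1 < k by omega))
  have h2 : j - 1 + 1 = j := by omega
  rwa [h2] at h1

/-- `PΩ_{2m+1}(q)`. -/
theorem core_orth_odd (hF : Fintype.card F = q) (hm : 3 ≤ m) (hodd : Odd q) :
    Core (Cfsg.POmega F (Cfsg.quadFormOdd m F)) := by
  have hq : 1 < q := hF ▸ Fintype.one_lt_card
  obtain ⟨k, hk⟩ := hodd
  have hcard := Cfsg.Agent.S0292.result hF ⟨k, hk⟩ m hm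
  obtain ⟨r, hr, he⟩ := Lib.Zsigmondy.exists_prime_orderOf (a := q) (n := 2 * m) (by omega) (by omega)
    (fun h => by omega) (fun h => by omega)
  obtain ⟨s, hs, hf⟩ := Lib.Zsigmondy.exists_prime_orderOf (a := q) (n := 2 * (m - 1)) (by omega) (by omega)
    (fun h => by omega) (fun h => by omega)
  have hrn := lt_prime hr he (by omega)
  have hsn := lt_prime hs hf (by omega)
  have hdvd : ∀ j t : ℕ, t.Prime → t ≠ 2 → orderOf (q : ZMod t) = 2 * j → 1 ≤ j → j ≤ m →
      t ∣ Nat.card (Cfsg.POmega F (Cfsg.quadFormOdd m F)) := by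
    intro j t ht ht2 hord hj hjm
    refine dvd_of_dvd_four_mul (g := 2) ht ht2 (by norm_num) ?_
    rw [hcard]
    exact Dvd.dvd.mul_left ((dvd_pow_sub_one hq.le hord).trans (dvd_prod_factor hj hjm)) _
  refine core_orth _ hF (d := 2 * m + 1) (by simp; ring) hr hs he hf (by omega) (by omega)
    (hdvd m r hr (by omega) he (by omega) le_rfl) (hdvd (m - 1) s hs (by omega) hf (by omega) (by omega))
    (by omega) (by omega) ?_ ?_ ?_ ?_ ?_
  · intro h
    have h1 : 2 * (m - 1) ∣ 2 * m - 2 * (m - 1) := Nat.dvd_sub h dvd_rfl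
    have h2 : 2 * m - 2 * (m - 1) = 2 := by omega
    rw [h2] at h1
    have := Nat.le_of_dvd two_pos h1
    omega
  · intro h
    have h1 : s ∣ m := by
      rcases (Nat.Prime.dvd_mul hs).1 h with h' | h'
      · have := Nat.le_of_dvd two_pos h'
        omega
      · exact h'
    have := Nat.le_of_dvd (by omega) h1
    omega
  · intro h
    have := Nat.le_of_dvd (by omega) h
    omega
  · calc 2 * m + 1 < r * 2 := by omega
      _ ≤ r * (2 * (m - 1)) := Nat.mul_le_mul_left r (by omega)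
  · intro h
    rw [h, hf] at he
    omega

/-- `PΩ⁻_{2m}(q)`. -/
theorem core_orth_minus (hF : Fintype.card F = q) (hm : 4 ≤ m) (a b : F)
    (hab : ∀ z₁ z₂ : F, z₁ ^ 2 + a * z₁ * z₂ + b * z₂ ^ 2 = 0 → z₁ = 0 ∧ z₂ = 0) :
    Core (Cfsg.POmega F (Cfsg.quadFormMinus (m - 1) F a b)) := by
  have hq : 1 < q := hF ▸ Fintype.one_lt_card
  have hcard := Cfsg.Agent.S0294.result hF m hm a b hab
  have hdim : Fintype.card ((Fin (m - 1) ⊕ Fin (m - 1)) ⊕ Fin 2) = 2 * m := by
    simp only [Fintype.card_sum, Fintype.card_fin]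
    omega
  have hdvd : ∀ j t : ℕ, t.Prime → t ≠ 2 → t ∣ q ^ (2 * j) - 1 → 1 ≤ j → j ≤ m - 1 →
      t ∣ Nat.card (Cfsg.POmega F (Cfsg.quadFormMinus (m - 1) F a b)) := by
    intro j t ht ht2 hord hj hjm
    refine dvd_of_dvd_four_mul ht ht2 (Nat.gcd_dvd_left 4 (q ^ m + 1)) ?_
    rw [hcard]
    exact Dvd.dvd.mul_left (hord.trans (dvd_prod_factor hj hjm)) _
  have hdvd' : ∀ t : ℕ, t.Prime → t ≠ 2 → t ∣ q ^ m + 1 →
      t ∣ Nat.card (Cfsg.POmega F (Cfsg.quadFormMinus (m - 1) F a b)) := by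
    intro t ht ht2 hord
    refine dvd_of_dvd_four_mul ht ht2 (Nat.gcd_dvd_left 4 (q ^ m + 1)) ?_
    rw [hcard]
    exact Dvd.dvd.mul_right (Dvd.dvd.mul_left hord _) _
  by_cases h4 : q = 2 ∧ m = 4
  · obtain ⟨rfl, rfl⟩ := h4
    refine core_orth _ hF hdim (r := 17) (s := 7) (e := 8) (f := 3) (by norm_num) (by norm_num) orderOf_two_17
      orderOf_two_seven (by norm_num) (by norm_num) (hdvd' 17 (by norm_num) (by norm_num) (by norm_num))
      (hdvd 3 7 (by norm_num) (by norm_num) (by norm_num) (by norm_num) (by norm_num)) (by norm_num) (by norm_num)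
      (by norm_num) (by norm_num) (by norm_num) (by norm_num) (by norm_num)
  obtain ⟨r, hr, he⟩ := Lib.Zsigmondy.exists_prime_orderOf (a := q) (n := 2 * m) (by omega) (by omega)
    (fun h => by omega) (fun h => by omega)
  obtain ⟨s, hs, hf⟩ := Lib.Zsigmondy.exists_prime_orderOf (a := q) (n := 2 * (m - 1)) (by omega) (by omega)
    (fun h => by omega) (fun h => by omega)
  have hrn := lt_prime hr he (by omega)
  have hsn := lt_prime hs hf (by omega)
  refine core_orth _ hF hdim hr hs he hf (by omega) (by omega)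
    (hdvd' r hr (by omega) (dvd_pow_add_one hr hq.le (by omega) he))
    (hdvd (m - 1) s hs (by omega) (dvd_pow_sub_one hq.le hf) (by omega) (by omega))
    (by omega) (by omega) ?_ ?_ ?_ ?_ ?_
  · intro h
    have h1 : 2 * (m - 1) ∣ 2 * m - 2 * (m - 1) := Nat.dvd_sub h dvd_rfl
    have h2 : 2 * m - 2 * (m - 1) = 2 := by omega
    rw [h2] at h1
    have := Nat.le_of_dvd two_pos h1
    omega
  · intro h
    have h1 : s ∣ m := by
      rcases (Nat.Prime.dvd_mul hs).1 h with h' | h'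
      · have := Nat.le_of_dvd two_pos h'
        omega
      · exact h'
    have := Nat.le_of_dvd (by omega) h1
    omega
  · intro h
    have := Nat.le_of_dvd (by omega) h
    omega
  · calc 2 * m < r := hrn
      _ = r * 1 := (mul_one r).symm
      _ ≤ r * (2 * (m - 1)) := Nat.mul_le_mul_left r (by omega)
  · intro h
    rw [h, hf] at he
    omega

/-- `PΩ⁺_{2m}(q)`, `(m, q) ≠ (4, 2)`. -/
theorem core_orth_plus (hF : Fintype.card F = q) (hm : 4 ≤ m) (h42 : ¬ (m = 4 ∧ q = 2)) :
    Core (Cfsg.POmega F (Cfsg.quadFormPlus m F)) := by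
  have hq : 1 < q := hF ▸ Fintype.one_lt_card
  have hcard := Cfsg.Agent.S0293.result hF m hm
  have hdim : Fintype.card (Fin m ⊕ Fin m) = 2 * m := by
    simp only [Fintype.card_sum, Fintype.card_fin]
    omega
  have hdvd : ∀ j t : ℕ, t.Prime → t ≠ 2 → t ∣ q ^ (2 * j) - 1 → 1 ≤ j → j ≤ m - 1 →
      t ∣ Nat.card (Cfsg.POmega F (Cfsg.quadFormPlus m F)) := by
    intro j t ht ht2 hord hj hjm
    refine dvd_of_dvd_four_mul ht ht2 (Nat.gcd_dvd_left 4 (q ^ m - 1)) ?_
    rw [hcard]
    exact Dvd.dvd.mul_left (hord.trans (dvd_prod_factor hj hjm)) _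
  have hdvd' : ∀ t : ℕ, t.Prime → t ≠ 2 → t ∣ q ^ m - 1 →
      t ∣ Nat.card (Cfsg.POmega F (Cfsg.quadFormPlus m F)) := by
    intro t ht ht2 hord
    refine dvd_of_dvd_four_mul ht ht2 (Nat.gcd_dvd_left 4 (q ^ m - 1)) ?_
    rw [hcard]
    exact Dvd.dvd.mul_right (Dvd.dvd.mul_left hord _) _
  by_cases h4 : q = 2 ∧ m = 5
  · obtain ⟨rfl, rfl⟩ := h4
    refine core_orth _ hF hdim (r := 17) (s := 31) (e := 8) (f := 5) (by norm_num) (by norm_num) orderOf_two_17
      orderOf_two_31 (by norm_num) (by norm_num)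
      (hdvd 4 17 (by norm_num) (by norm_num) (by norm_num) (by norm_num) (by norm_num))
      (hdvd' 31 (by norm_num) (by norm_num) (by norm_num)) (by norm_num) (by norm_num)
      (by norm_num) (by norm_num) (by norm_num) (by norm_num) (by norm_num)
  obtain ⟨r, hr, he⟩ := Lib.Zsigmondy.exists_prime_orderOf (a := q) (n := 2 * (m - 1)) (by omega) (by omega)
    (fun h => by omega) (fun h => h42 (by omega))
  obtain ⟨s, hs, hf⟩ := Lib.Zsigmondy.exists_prime_orderOf (a := q) (n := 2 * (m - 2)) (by omega) (by omega)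
    (fun h => by omega) (fun h => h4 (by omega))
  have hrn := lt_prime hr he (by omega)
  have hsn := lt_prime hs hf (by omega)
  refine core_orth _ hF hdim hr hs he hf (by omega) (by omega)
    (hdvd (m - 1) r hr (by omega) (dvd_pow_sub_one hq.le he) (by omega) (by omega))
    (hdvd (m - 2) s hs (by omega) (dvd_pow_sub_one hq.le hf) (by omega) (by omega))
    (by omega) (by omega) ?_ ?_ ?_ ?_ ?_
  · intro h
    have h1 : 2 * (m - 2) ∣ 2 * (m - 1) - 2 * (m - 2) := Nat.dvd_sub h dvd_rfl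
    have h2 : 2 * (m - 1) - 2 * (m - 2) = 2 := by omega
    rw [h2] at h1
    have := Nat.le_of_dvd two_pos h1
    omega
  · intro h
    have h1 : s ∣ m - 1 := by
      rcases (Nat.Prime.dvd_mul hs).1 h with h' | h'
      · have := Nat.le_of_dvd two_pos h'
        omega
      · exact h'
    have := Nat.le_of_dvd (by omega) h1
    omega
  · intro h
    have := Nat.le_of_dvd (by omega) h
    omega
  · calc 2 * m < r * 2 := by omega
      _ ≤ r * (2 * (m - 2)) := Nat.mul_le_mul_left r (by omega)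
  · intro h
    rw [h, hf] at he
    omega

end

/-- **The odd-dimensional orthogonal groups.** -/
theorem core_isPOmegaOdd {G : Type u} [Group G] (h : Cfsg.IsPOmegaOdd G) : Core G := by
  obtain ⟨F, _, _, m, hm, hodd, ⟨e⟩⟩ := h
  exact Core.congr e.symm (core_orth_odd rfl hm hodd)

/-- **The orthogonal groups of minus type.** -/
theorem core_isPOmegaMinus {G : Type u} [Group G] (h : Cfsg.IsPOmegaMinus G) : Core G := by
  obtain ⟨F, _, _, m, a, b, hm, hab, ⟨e⟩⟩ := h
  exact Core.congr e.symm (core_orth_minus rfl hm a b hab)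

end Cfsg.Agent.H518.DghpMat
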