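import Mathlib
import Cfsg.Agent.H518.DghpOrth
import Cfsg.Agent.H176.NFBase
import Cfsg.Agent.H478.SporCore_m3
import Cfsg.Agent.S0333
import Cfsg.Agent.S0324
import Cfsg.Agent.OddCyclic.ClaimC.SzIso
import Cfsg.Agent.S1158
import Cfsg.Agent.S1069
import Cfsg.Agent.FastGrp
import Cfsg.Agent.Prune
set_option linter.all false

section
prune_inst 0x7f00000000000000000000000000000000000000000000000000000000000000000000000000000000000000000000000000000000000000000000000000000000000000000000000000000000000000003fffffffffffffffffffffffffffbeffbdffffffff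

-- part: H518/DghpOEight
section
set_option linter.all false
open scoped Cfsg.Agent.FastGrp

/-!
# The group `PΩ⁺₈(2)`

No element of order `7` of the orthogonal group commutes with an element of order `5`.
-/

set_option autoImplicit false

namespace Cfsg.Agent.H518.DghpMat

open Module Cfsg.Agent.H518.Dghp Cfsg.Agent.H518.DghpSep Cfsg.Agent.H518.DghpPrim Cfsg.Agent.H518.DghpFix

universe u v w

section

variable {F : Type u} [Field F] [Fintype F] {V : Type v} [AddCommGroup V] [Module F V] [FiniteDimensional F V]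

omit [FiniteDimensional F V] in
theorem charTwo' (hF : Fintype.card F = 2) : (2 : F) = 0 := by
  have h1 : ringChar F = 2 := by
    by_contra hcon
    have h2 := FiniteField.odd_card_of_char_ne_two hcon
    rw [hF] at h2
    omega
  have h3 : ((2 : ℕ) : F) = 0 := (ringChar.spec F 2).2 (by rw [h1])
  exact_mod_cast h3

/-- Dimensions of the fixed spaces of commuting elements of orders `7` and `5` in `GL_8(2)`. -/
theorem finrank_fix_seven (hF : Fintype.card F = 2) (hV : finrank F V = 8) {x y : V →ₗ[F] V} (hx : x ^ 7 = 1)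
    (hx1 : x ≠ 1) (hy : y ^ 5 = 1) (hy1 : y ≠ 1) (hxy : x * y = y * x) : finrank F (fixS x) = 5 := by
  have htop : finrank F (⊤ : Submodule F V) = 8 := by rw [finrank_top, hV]
  have h7 : orderOf ((Fintype.card F : ℕ) : ZMod 7) = 3 := by rw [hF]; exact orderOf_two_seven
  have h5 : orderOf ((Fintype.card F : ℕ) : ZMod 5) = 4 := by rw [hF]; exact orderOf_two_five
  have h7F : ¬ 7 ∣ Fintype.card F := by rw [hF]; norm_num
  have h5F : ¬ 5 ∣ Fintype.card F := by rw [hF]; norm_num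
  have hx' : x ^ 7 ^ 1 = 1 := by rw [pow_one, hx]
  have hy' : y ^ 5 ^ 1 = 1 := by rw [pow_one, hy]
  have hcx : finrank F (fixS x) < 8 := by
    rw [← hV]
    refine lt_of_le_of_ne (Submodule.finrank_le _) fun h => hx1 ?_
    exact fixS_eq_top_iff.1 (Submodule.eq_top_of_finrank_eq h)
  have hcy : finrank F (fixS y) < 8 := by
    rw [← hV]
    refine lt_of_le_of_ne (Submodule.finrank_le _) fun h => hy1 ?_
    exact fixS_eq_top_iff.1 (Submodule.eq_top_of_finrank_eq h)
  have h1 := finrank_fix (by norm_num) h7F hx' ⊤ (fun _ _ => trivial)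
  have h2 := finrank_fix (by norm_num) h5F hy' ⊤ (fun _ _ => trivial)
  have h3 := finrank_fix (by norm_num) h5F hy' (fixS x) (fixS_invariant hxy)
  have h4 := finrank_fix (by norm_num) h7F hx' (fixS y) (fixS_invariant hxy.symm)
  rw [top_inf_eq, htop, h7] at h1
  rw [top_inf_eq, htop, h5] at h2
  rw [h5] at h3
  rw [inf_comm, h7] at h4
  have hle1 : finrank F ↥(fixS x ⊓ fixS y) ≤ finrank F (fixS x) := Submodule.finrank_mono inf_le_left
  have hle2 : finrank F ↥(fixS x ⊓ fixS y) ≤ finrank F (fixS y) := Submodule.finrank_mono inf_le_right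
  omega

/-- An isometry of order `7` of a nondegenerate quadratic form over the field of two elements does not have a
commutator space of dimension `3`. -/
theorem isometry_seven (hF : Fintype.card F = 2) (Q : V → F)
    (hB : ∀ u v w, Q (u + (v + w)) + Q u + Q (v + w) = (Q (u + v) + Q u + Q v) + (Q (u + w) + Q u + Q w))
    (hnd : ∀ u, (∀ v, Q (u + v) + Q u + Q v = 0) → u = 0) {x : V →ₗ[F] V} (hQ : ∀ v, Q (x v) = Q v) (hx : x ^ 7 = 1)
    (hdim : finrank F (fixS x) + 3 = finrank F V) : False := by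
  classical
  have h2 : (2 : F) = 0 := charTwo' hF
  have hadd : ∀ a : F, a + a = 0 := fun a => by linear_combination a * h2
  have haddV : ∀ v : V, v + v = 0 := fun v => by
    rw [← two_smul F v, h2, zero_smul]
  have hfin : Finite F := Finite.of_fintype F
  have hfinV : Finite V := Module.finite_of_finite F
  have h7 : orderOf ((Fintype.card F : ℕ) : ZMod 7) = 3 := by rw [hF]; exact orderOf_two_seven
  have h7F : ¬ 7 ∣ Fintype.card F := by rw [hF]; norm_num
  have hx' : x ^ 7 ^ 1 = 1 := by rw [pow_one, hx]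
  -- the commutator space
  set W : Submodule F V := LinearMap.range (x - 1) with hW
  have hker : LinearMap.ker (x - 1) = fixS x := by
    ext v
    rw [LinearMap.mem_ker, mem_fixS, LinearMap.sub_apply, sub_eq_zero]
    rfl
  have hWdim : finrank F W = 3 := by
    have h1 : finrank F W + finrank F (fixS x) = finrank F V := by
      rw [← hker]
      exact LinearMap.finrank_range_add_finrank_ker (x - 1)
    omega
  have hWx : ∀ v ∈ W, x v ∈ W := by
    rintro _ ⟨v, rfl⟩
    refine ⟨x v, ?_⟩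
    simp
  have hWmem : ∀ v, x v + v ∈ W := by
    intro v
    refine ⟨v, ?_⟩
    have h1 : (x - 1) v = x v - v := rfl
    rw [h1, sub_eq_iff_eq_add, add_assoc, haddV, add_zero]
  have hWfix : W ⊓ fixS x = ⊥ := by
    have h1 := finrank_fix (by norm_num) h7F hx' W hWx
    rw [h7, hWdim] at h1
    have h3 : finrank F ↥(W ⊓ fixS x) ≤ finrank F W := Submodule.finrank_mono inf_le_left
    rw [hWdim] at h3
    have h4 : finrank F ↥(W ⊓ fixS x) = 0 ∨ finrank F ↥(W ⊓ fixS x) = 3 := by omega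
    rcases h4 with h4 | h4
    · exact Submodule.finrank_eq_zero.1 h4
    · exfalso
      have h5 : W ⊓ fixS x = W := Submodule.eq_of_le_of_finrank_eq inf_le_left (by rw [h4, hWdim])
      have h6 : W ≤ fixS x := inf_eq_left.1 h5
      have h8 : x ^ 2 = 1 := by
        ext v
        have h9 : x (x v + v) = x v + v := h6 (hWmem v)
        rw [map_add, add_comm (x (x v)) (x v)] at h9
        have h10 : x (x v) = v := add_left_cancel h9
        rw [pow_two]
        exact h10
      have h9 : x = 1 := by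
        calc x = x ^ 7 := by
              have : x ^ 7 = (x ^ 2) ^ 3 * x := by
                rw [← pow_mul, ← pow_succ]
              rw [this, h8, one_pow, one_mul]
          _ = 1 := hx
      have h10 : fixS x = ⊤ := fixS_eq_top_iff.2 h9
      rw [h10, finrank_top] at hdim
      omega
  -- iterates
  have hWxp : ∀ (k : ℕ), ∀ v ∈ W, (x ^ k) v ∈ W := by
    intro k
    induction k with
    | zero => intro v hv; simpa using hv
    | succ k ih =>
      intro v hv
      rw [pow_succ', Module.End.mul_apply]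
      exact hWx _ (ih v hv)
  have hQp : ∀ (k : ℕ) (v : V), Q ((x ^ k) v) = Q v := by
    intro k
    induction k with
    | zero => intro v; simp
    | succ k ih =>
      intro v
      rw [pow_succ', Module.End.mul_apply, hQ, ih]
  have hinj : ∀ w ∈ W, w ≠ 0 → ∀ k : ℕ, 0 < k → k < 7 → (x ^ k) w ≠ w := by
    intro w hw hw0 k hk0 hk7 hkw
    -- `x w = w`
    have hiter : ∀ j : ℕ, (x ^ (k * j)) w = w := by
      intro j
      induction j with
      | zero => simp
      | succ j ih => rw [Nat.mul_succ, pow_add, Module.End.mul_apply, hkw, ih]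
    obtain ⟨j, hj⟩ : ∃ j, (k * j) % 7 = 1 := by
      interval_cases k
      · exact ⟨1, rfl⟩
      · exact ⟨4, rfl⟩
      · exact ⟨5, rfl⟩
      · exact ⟨2, rfl⟩
      · exact ⟨3, rfl⟩
      · exact ⟨6, rfl⟩
    have h1 : x ^ (k * j) = x := by
      have h3 : k * j = 7 * (k * j / 7) + 1 := by omega
      rw [h3, pow_succ, pow_mul, hx, one_pow, one_mul]
    have h3 := hiter j
    rw [h1] at h3
    have h4 : w ∈ W ⊓ fixS x := ⟨hw, h3⟩
    rw [hWfix, Submodule.mem_bot] at h4
    exact hw0 h4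
  -- `Q` is constant on `W \ {0}`
  have hcardW : Nat.card W = 8 := by
    rw [Module.natCard_eq_pow_finrank (K := F) (V := W), Nat.card_eq_fintype_card, hF, hWdim]
    norm_num
  have hconst : ∀ u ∈ W, u ≠ 0 → ∀ w ∈ W, w ≠ 0 → Q u = Q w := by
    intro u hu hu0 w hw hw0
    have hmem : ∀ i : Fin 7, (x ^ (i : ℕ)) w ∈ {v : W | v ≠ 0}.image Subtype.val := by
      intro i
      refine ⟨⟨(x ^ (i : ℕ)) w, hWxp i w hw⟩, ?_, rfl⟩
      intro h0
      have h1 : (x ^ (i : ℕ)) w = 0 := congrArg Subtype.val h0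
      apply hw0
      have h3 : (x ^ (7 - (i : ℕ))) ((x ^ (i : ℕ)) w) = w := by
        rw [← Module.End.mul_apply, ← pow_add, Nat.sub_add_cancel i.2.le, hx]
        rfl
      rw [← h3, h1, map_zero]
    have hinj' : Function.Injective (fun i : Fin 7 => (x ^ (i : ℕ)) w) := by
      intro i j hij
      by_contra hne
      have key : ∀ i j : Fin 7, (i : ℕ) < j → (x ^ (i : ℕ)) w = (x ^ (j : ℕ)) w → False := by
        intro i j hlt hij
        have h1 : (x ^ (7 - (i : ℕ))) ((x ^ (i : ℕ)) w) = (x ^ (7 - (i : ℕ))) ((x ^ (j : ℕ)) w) := by rw [hij]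
        rw [← Module.End.mul_apply, ← Module.End.mul_apply, ← pow_add, ← pow_add, Nat.sub_add_cancel i.2.le, hx] at h1
        have h3 : 7 - (i : ℕ) + j = 7 + (j - i) := by omega
        rw [h3, pow_add, hx, one_mul] at h1
        exact hinj w hw hw0 (j - i) (by omega) (by omega) h1.symm
      rcases lt_or_gt_of_ne (fun h => hne (Fin.ext h)) with h | h
      · exact key i j h hij
      · exact key j i h hij.symm
    have hc1 : ({v : W | v ≠ 0}.image Subtype.val).ncard = 7 := by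
      rw [Set.ncard_image_of_injective _ Subtype.val_injective]
      have h1 : ({v : W | v ≠ 0} : Set W) = {(0 : W)}ᶜ := rfl
      rw [h1, Set.ncard_compl, hcardW, Set.ncard_singleton]
    have hc2 : (Set.range (fun i : Fin 7 => (x ^ (i : ℕ)) w)).ncard = 7 := by
      rw [← Nat.card_coe_set_eq, Nat.card_range_of_injective hinj', Nat.card_eq_fintype_card, Fintype.card_fin]
    have hc3 : Set.range (fun i : Fin 7 => (x ^ (i : ℕ)) w) = {v : W | v ≠ 0}.image Subtype.val := by
      refine Set.eq_of_subset_of_ncard_le ?_ (by rw [hc1, hc2]) (Set.toFinite _)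
      rintro _ ⟨i, rfl⟩
      exact hmem i
    have h1 : u ∈ {v : W | v ≠ 0}.image Subtype.val := ⟨⟨u, hu⟩, fun h => hu0 (congrArg Subtype.val h), rfl⟩
    rw [← hc3] at h1
    obtain ⟨i, hi⟩ := h1
    rw [← hi]
    exact hQp i w
  have hQ0 : Q 0 = 0 := by
    have h1 := hB 0 0 0
    rw [add_zero, add_zero] at h1
    linear_combination h1 + 2 * Q 0 * h2
  -- the value of `Q` on `W \ {0}` is `0`
  obtain ⟨u, hu⟩ : ∃ u : W, u ∉ ({0} : Finset W) := by
    by_contra hcon
    push Not at hcon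
    have : Nat.card W ≤ 1 := by
      have : Fintype W := Fintype.ofFinite _
      rw [Nat.card_eq_fintype_card]
      exact Finset.card_le_card (s := Finset.univ) (t := {0}) (fun v _ => hcon v)
    omega
  obtain ⟨v, hv⟩ : ∃ v : W, v ∉ ({0, u} : Finset W) := by
    by_contra hcon
    push Not at hcon
    have : Nat.card W ≤ 2 := by
      have : Fintype W := Fintype.ofFinite _
      rw [Nat.card_eq_fintype_card]
      exact (Finset.card_le_card (s := Finset.univ) (t := {0, u}) (fun v _ => hcon v)).trans Finset.card_le_two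
    omega
  obtain ⟨w, hw⟩ : ∃ w : W, w ∉ ({0, u, v, u + v} : Finset W) := by
    by_contra hcon
    push Not at hcon
    have : Nat.card W ≤ 4 := by
      have : Fintype W := Fintype.ofFinite _
      rw [Nat.card_eq_fintype_card]
      exact (Finset.card_le_card (s := Finset.univ) (t := {0, u, v, u + v}) (fun v _ => hcon v)).trans
        Finset.card_le_four
    omega
  simp only [Finset.mem_singleton] at hu
  simp only [Finset.mem_insert, Finset.mem_singleton, not_or] at hv hw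
  have haddW : ∀ a b : W, a + b = 0 → a = b := by
    intro a b hab
    have h1 : a + a = 0 := Subtype.ext (haddV a)
    have h3 : a + b = a + a := by rw [hab, h1]
    exact (add_left_cancel h3).symm
  have hval : ∀ a : W, a ≠ 0 → Q (a : V) = Q (u : V) := fun a ha =>
    hconst a a.2 (fun h => ha (Subtype.ext h)) u u.2 (fun h => hu (Subtype.ext h))
  have huv : u + v ≠ 0 := fun h => hv.2 (haddW u v h).symm
  have huw : u + w ≠ 0 := fun h => hw.2.1 (haddW u w h).symm
  have hvw : v + w ≠ 0 := fun h => hw.2.2.1 (haddW v w h).symm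
  have huvw : u + (v + w) ≠ 0 := by
    intro h
    rw [← add_assoc] at h
    exact hw.2.2.2 (haddW _ _ h).symm
  have hc0 : Q (u : V) = 0 := by
    have h1 := hB u v w
    have e1 : Q ((u : V) + ((v : V) + (w : V))) = Q (u : V) := hval _ huvw
    have e2 : Q ((v : V) + (w : V)) = Q (u : V) := hval _ hvw
    have e3 : Q ((u : V) + (v : V)) = Q (u : V) := hval _ huv
    have e4 : Q ((u : V) + (w : V)) = Q (u : V) := hval _ huw
    rw [e1, e2, e3, e4, hval v hv.1, hval w hw.1] at h1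
    linear_combination -h1 - Q (u : V) * h2
  have hQW : ∀ a ∈ W, Q a = 0 := by
    intro a ha
    by_cases ha0 : a = 0
    · rw [ha0, hQ0]
    · rw [hconst a ha ha0 u u.2 (fun h => hu (Subtype.ext h)), hc0]
  -- the polar form vanishes on `W`
  have hBW : ∀ a ∈ W, ∀ b ∈ W, Q (a + b) + Q a + Q b = 0 := by
    intro a ha b hb
    rw [hQW a ha, hQW b hb, hQW _ (W.add_mem ha hb), add_zero, add_zero]
  -- hence `u` is fixed
  have hfix : (u : V) ∈ fixS x := by
    have h1 : ∀ z : V, Q ((x u + u) + z) + Q (x u + u) + Q z = 0 := by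
      intro z
      -- `B (x u, z) = B (u, z)`
      obtain ⟨z', hz'⟩ : ∃ z', x z' = z := by
        refine ⟨(x ^ 6) z, ?_⟩
        rw [← Module.End.mul_apply, ← pow_succ', hx]
        rfl
      have h3 : Q (x u + z) + Q (x u) + Q z = Q ((u : V) + z') + Q (u : V) + Q z' := by
        rw [← hz', ← map_add, hQ, hQ, hQ]
      have h4 : Q ((u : V) + (z + z')) + Q (u : V) + Q (z + z') = 0 := by
        refine hBW u u.2 _ ?_
        rw [← hz']
        exact hWmem z'
      rw [hB] at h4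
      have h5 : Q ((u : V) + z) + Q (u : V) + Q z = Q ((u : V) + z') + Q (u : V) + Q z' := by
        linear_combination h4 - (Q ((u : V) + z') + Q (u : V) + Q z') * h2
      have h6 : Q (x u + z) + Q (x u) + Q z = Q ((u : V) + z) + Q (u : V) + Q z := by rw [h3, h5]
      have h8 := hB z (x u) u
      rw [add_comm z (x u + u), add_comm z (x u), add_comm z (u : V)] at h8
      linear_combination h8 + h6 + (Q ((u : V) + z) + Q (u : V) + Q z) * h2
    have h3 := hnd _ h1
    rw [mem_fixS]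
    have h4 : x u + u = u + u := by rw [h3, haddV]
    exact add_right_cancel h4
  have h1 : (u : V) ∈ W ⊓ fixS x := ⟨u.2, hfix⟩
  rw [hWfix, Submodule.mem_bot] at h1
  exact hu (Subtype.ext h1)

end

section

variable {F : Type} [Field F] [Fintype F]

omit [Fintype F] in
/-- The polar form of `quadFormPlus` in characteristic `2`. -/
theorem polar_plus (h2 : (2 : F) = 0) (m : ℕ) (u v : Fin m ⊕ Fin m → F) :
    Cfsg.quadFormPlus m F (u + v) + Cfsg.quadFormPlus m F u + Cfsg.quadFormPlus m F v =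
      ∑ i : Fin m, (u (.inl i) * v (.inr i) + v (.inl i) * u (.inr i)) := by
  unfold Cfsg.quadFormPlus
  rw [← Finset.sum_add_distrib, ← Finset.sum_add_distrib]
  refine Finset.sum_congr rfl fun i _ => ?_
  simp only [Pi.add_apply]
  linear_combination (u (Sum.inl i) * u (Sum.inr i) + v (Sum.inl i) * v (Sum.inr i)) * h2

/-- `PΩ⁺₈(2)`. -/
theorem core_orth_plus_eight (hF : Fintype.card F = 2) : Core (Cfsg.POmega F (Cfsg.quadFormPlus 4 F)) := by
  have h2 : (2 : F) = 0 := charTwo' hF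
  have hcard := Cfsg.Agent.S0293.result hF 4 le_rfl
  have hdim : finrank F (Fin 4 ⊕ Fin 4 → F) = 8 := by
    rw [finrank_pi_fin]
    simp
  have h7F : ¬ 7 ∣ Fintype.card F := by rw [hF]; norm_num
  have h5F : ¬ 5 ∣ Fintype.card F := by rw [hF]; norm_num
  have h7 : orderOf ((Fintype.card F : ℕ) : ZMod 7) = 3 := by rw [hF]; exact orderOf_two_seven
  have h5 : orderOf ((Fintype.card F : ℕ) : ZMod 5) = 4 := by rw [hF]; exact orderOf_two_five
  have hp7 : Nat.Prime 7 := by norm_num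
  have hp5 : Nat.Prime 5 := by norm_num
  set φ := matRep (omHom (Cfsg.quadFormPlus 4 F)) with hφ
  have hφi : Function.Injective φ := matRep_injective (omHom_injective _)
  have hsep : Sep (Cfsg.Omega F (Cfsg.quadFormPlus 4 F)) 7 5 := by
    refine sep_of_nc hp7 hp5 ?_ ?_ ?_
    · exact nc_of_rep φ hφi hp7 hp5 h7F (by rw [h7]; norm_num) (by rw [h7, hdim]; norm_num)
    · exact nc_of_rep φ hφi hp5 hp7 h5F (by rw [h5]; norm_num) (by rw [h5, hdim]; norm_num)
    · intro x y hx hy hxy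
      have hx7 : φ x ^ 7 = 1 := pow_eq_one_of_orderOf φ hx
      have h1 := finrank_fix_seven hF hdim hx7 (ne_one_of_orderOf φ hφi hp7 hx)
        (pow_eq_one_of_orderOf φ hy) (ne_one_of_orderOf φ hφi hp5 hy) (by rw [← map_mul, hxy, map_mul])
      refine isometry_seven hF (Cfsg.quadFormPlus 4 F) ?_ ?_ (x := φ x) ?_ hx7 (by rw [h1, hdim])
      · intro u v w
        rw [polar_plus h2, polar_plus h2, polar_plus h2, ← Finset.sum_add_distrib]
        refine Finset.sum_congr rfl fun i _ => ?_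
        simp only [Pi.add_apply]
        ring
      · intro u hu
        have h3 : ∀ v : Fin 4 ⊕ Fin 4 → F, ∑ i : Fin 4, (u (.inl i) * v (.inr i) + v (.inl i) * u (.inr i)) = 0 := fun v => by
          rw [← polar_plus h2, hu]
        funext j
        rcases j with j | j
        · have h4 := h3 (Pi.single (.inr j) 1)
          simpa [Pi.single_apply] using h4
        · have h4 := h3 (Pi.single (.inl j) 1)
          simpa [Pi.single_apply] using h4
      · intro v
        exact (x : Cfsg.isometryGroup F (Cfsg.quadFormPlus 4 F)).2 v v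
  have hdvd : ∀ t : ℕ, t.Prime → t ≠ 2 → t ∣ 2 ^ (4 * (4 - 1)) * (2 ^ 4 - 1) *
      ∏ i ∈ Finset.range (4 - 1), (2 ^ (2 * (i + 1)) - 1) →
      t ∣ Nat.card (Cfsg.POmega F (Cfsg.quadFormPlus 4 F)) := by
    intro t ht ht2 h
    refine dvd_of_dvd_four_mul ht ht2 (Nat.gcd_dvd_left 4 (2 ^ 4 - 1)) ?_
    rw [hcard]
    exact h
  exact core_center_quotient hsep hp7 hp5 (by norm_num)
    (hdvd 7 hp7 (by norm_num) (by decide)) (hdvd 5 hp5 (by norm_num) (by decide))

end

/-- **The orthogonal groups of plus type.** -/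
theorem core_isPOmegaPlus {G : Type u} [Group G] (h : Cfsg.IsPOmegaPlus G) : Core G := by
  obtain ⟨F, _, _, m, hm, ⟨e⟩⟩ := h
  refine Core.congr e.symm ?_
  by_cases h42 : m = 4 ∧ Fintype.card F = 2
  · obtain ⟨rfl, h⟩ := h42
    exact core_orth_plus_eight h
  · exact core_orth_plus rfl hm h42

end Cfsg.Agent.H518.DghpMat
end

-- part: H728/DghpHall
section
set_option linter.all false
open scoped Cfsg.Agent.FastGrp

/-!
# Two Hall tori: the rows Sz and Ree (helper728)
-/

set_option autoImplicit false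

namespace Cfsg.Agent.H728.DghpHall

open Cfsg.Agent.H728.DghpLem Cfsg.Agent.H518.Dghp Cfsg.Agent.H728.DghpSyl

variable {G : Type*} [Group G] [Finite G]

theorem no_norm {A : Subgroup G} {r s : ℕ} (hr : r.Prime)
    (hA : ∀ A₀ : Subgroup G, A₀ ≤ A → A₀ ≠ ⊥ → Subgroup.normalizer (A₀ : Set G) ≤ Subgroup.normalizer (A : Set G))
    (hri : ¬ r ∣ A.index) (hsN : ¬ s ∣ Nat.card ↥(Subgroup.normalizer (A : Set G))) (P : Subgroup G)
    (hP : Elem r P) (y : G) (hy : orderOf y = s) : y ∉ Subgroup.normalizer (P : Set G) := by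
  intro hn
  have hPg : IsPGroup r ↥P := fun u => ⟨1, by
    rw [pow_one]
    exact Subtype.ext (hP.2.2 u.1 u.2)⟩
  obtain ⟨g, hg⟩ := exists_conj_le hr hri hPg
  have h1 : P.map (MulAut.conj g).toMonoidHom ≠ ⊥ := by
    intro h2
    apply hP.1
    rwa [Subgroup.map_eq_bot_iff, (MonoidHom.ker_eq_bot_iff _).2 (MulAut.conj g).injective, le_bot_iff] at h2
  have h3 : MulAut.conj g y ∈ Subgroup.normalizer ((P.map (MulAut.conj g).toMonoidHom : Subgroup G) : Set G) := by
    rw [Subgroup.mem_normalizer_iff]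
    intro h
    constructor
    · rintro ⟨u, hu, rfl⟩
      refine ⟨y * u * y⁻¹, (Subgroup.mem_normalizer_iff.1 hn u).1 hu, ?_⟩
      show MulAut.conj g (y * u * y⁻¹) = MulAut.conj g y * MulAut.conj g u * (MulAut.conj g y)⁻¹
      rw [map_mul, map_mul, map_inv]
    · rintro ⟨u, hu, hu'⟩
      refine ⟨y⁻¹ * u * y, ?_, ?_⟩
      · have h4 := (Subgroup.mem_normalizer_iff.1 hn (y⁻¹ * u * y)).2
        apply h4
        have e : y * (y⁻¹ * u * y) * y⁻¹ = u := by group
        rw [e]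
        exact hu
      · have hu'' : MulAut.conj g u = MulAut.conj g y * h * (MulAut.conj g y)⁻¹ := hu'
        show MulAut.conj g (y⁻¹ * u * y) = h
        rw [map_mul, map_mul, map_inv, hu'']
        group
  replace h3 := hA _ hg h1 h3
  apply hsN
  have h5 : orderOf (⟨MulAut.conj g y, h3⟩ : ↥(Subgroup.normalizer (A : Set G))) ∣ _ := orderOf_dvd_natCard _
  rw [Subgroup.orderOf_mk] at h5
  have h6 : orderOf (MulAut.conj g y) = s := by
    rw [← hy]
    exact orderOf_injective (MulAut.conj g).toMonoidHom (MulAut.conj g).injective y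
  rwa [h6] at h5

/-- **Two Hall tori.** -/
theorem core_tori {A B : Subgroup G} {r s : ℕ} (hr : r.Prime) (hs : s.Prime) (hrs : r ≠ s)
    (hA : ∀ A₀ : Subgroup G, A₀ ≤ A → A₀ ≠ ⊥ → Subgroup.normalizer (A₀ : Set G) ≤ Subgroup.normalizer (A : Set G))
    (hB : ∀ A₀ : Subgroup G, A₀ ≤ B → A₀ ≠ ⊥ → Subgroup.normalizer (A₀ : Set G) ≤ Subgroup.normalizer (B : Set G))
    (hrA : r ∣ Nat.card ↥A) (hsB : s ∣ Nat.card ↥B)
    (hri : ¬ r ∣ A.index) (hsi : ¬ s ∣ B.index) (hsN : ¬ s ∣ Nat.card ↥(Subgroup.normalizer (A : Set G)))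
    (hrN : ¬ r ∣ Nat.card ↥(Subgroup.normalizer (B : Set G))) : Core G := by
  have : Fact r.Prime := ⟨hr⟩
  have : Fact s.Prime := ⟨hs⟩
  obtain ⟨x, hx⟩ := exists_prime_orderOf_dvd_card' r (hrA.trans (Subgroup.card_subgroup_dvd_card A))
  obtain ⟨y, hy⟩ := exists_prime_orderOf_dvd_card' s (hsB.trans (Subgroup.card_subgroup_dvd_card B))
  refine ⟨r, s, 1, 1, hr, hs, hrs, one_pos, one_pos, ⟨x, by rw [hx, pow_one]⟩, ⟨y, by rw [hy, pow_one]⟩,
    fun x y hx hy => not_solvable_of_norm hr hs one_pos (fun P hP y' hy' => ?_) (fun P hP x' hx' => ?_) x y hx hy⟩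
  · rw [pow_one] at hy'
    exact no_norm hr hA hri hsN P hP y' hy'
  · rw [pow_one] at hx'
    exact no_norm hs hB hsi hrN P hP x' hx'

omit [Finite G] in
theorem normalizer_le {A : Subgroup G} (hA : ∀ u ∈ A, u ≠ 1 → Subgroup.centralizer {u} = A) (A₀ : Subgroup G)
    (h1 : A₀ ≤ A) (h2 : A₀ ≠ ⊥) :
    Subgroup.normalizer (A₀ : Set G) ≤ Subgroup.normalizer (A : Set G) := by
  obtain ⟨u, hu, hu1⟩ : ∃ u ∈ A₀, u ≠ 1 := by
    by_contra h
    push Not at h
    exact h2 ((Subgroup.eq_bot_iff_forall A₀).2 h)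
  intro g hg
  rw [Subgroup.mem_normalizer_iff]
  intro a
  have h3 : g * u * g⁻¹ ∈ A₀ := (Subgroup.mem_normalizer_iff.1 hg u).1 hu
  have h4 : g * u * g⁻¹ ≠ 1 := by
    intro h
    apply hu1
    have : u = g⁻¹ * (g * u * g⁻¹) * g := by group
    rw [this, h]
    group
  rw [show a ∈ A ↔ a ∈ Subgroup.centralizer {u} by rw [hA u (h1 hu) hu1],
    show g * a * g⁻¹ ∈ A ↔ g * a * g⁻¹ ∈ Subgroup.centralizer {g * u * g⁻¹} by rw [hA _ (h1 h3) h4],
    Subgroup.mem_centralizer_singleton_iff, Subgroup.mem_centralizer_singleton_iff]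
  constructor
  · intro h
    calc g * a * g⁻¹ * (g * u * g⁻¹) = g * (a * u) * g⁻¹ := by group
      _ = g * (u * a) * g⁻¹ := by rw [h]
      _ = _ := by group
  · intro h
    have h5 : g * (a * u) * g⁻¹ = g * (u * a) * g⁻¹ := by
      calc g * (a * u) * g⁻¹ = g * a * g⁻¹ * (g * u * g⁻¹) := by group
        _ = g * u * g⁻¹ * (g * a * g⁻¹) := h
        _ = _ := by group
    exact mul_left_cancel (mul_right_cancel h5)

omit [Finite G] in
theorem index_of {A : Subgroup G} {n k : ℕ} (hn : n ≠ 0) (h1 : Nat.card ↥A = n) (h2 : Nat.card G = n * k) :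
    A.index = k := by
  have h3 := Subgroup.card_mul_index A
  rw [h1, h2] at h3
  exact Nat.eq_of_mul_eq_mul_left (Nat.pos_of_ne_zero hn) h3

/-! ### the Suzuki groups -/

theorem sz_num {q t r s : ℕ} (hq : 8 ≤ q) (hq2 : ∃ k, q = 2 ^ k) (ht2 : ∃ k, t = 2 ^ k) (htq : t ≤ q)
    (ht : t ^ 2 = 2 * q) (hr : r.Prime) (hs : s.Prime) (hr1 : r ∣ q + t + 1)
    (hs1 : s ∣ q - t + 1) : r ≠ s ∧ ¬ r ∣ q ^ 2 * (q - 1) * (q - t + 1) ∧ ¬ s ∣ q ^ 2 * (q - 1) * (q + t + 1) ∧
      ¬ s ∣ 4 * (q + t + 1) ∧ ¬ r ∣ 4 * (q - t + 1) := by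
  obtain ⟨kq, hkq⟩ := hq2
  obtain ⟨kt, hkt⟩ := ht2
  have hq1 : 1 ≤ q := by omega
  -- in `ℤ`
  have hr1' : (r : ℤ) ∣ q + t + 1 := by exact_mod_cast Int.natCast_dvd_natCast.2 hr1
  have hs1' : (s : ℤ) ∣ q - t + 1 := by
    have := Int.natCast_dvd_natCast.2 hs1
    push_cast [Nat.cast_sub htq] at this
    exact this
  have hprod : ((q : ℤ) + t + 1) * (q - t + 1) = q ^ 2 + 1 := by
    have : (t : ℤ) ^ 2 = 2 * q := by exact_mod_cast ht
    linear_combination -this
  have hrq : (r : ℤ) ∣ (q : ℤ) ^ 2 + 1 := by rw [← hprod]; exact hr1'.mul_right _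
  have hsq : (s : ℤ) ∣ (q : ℤ) ^ 2 + 1 := by rw [← hprod]; exact hs1'.mul_left _
  have hq2' : 2 ∣ q := by
    rw [hkq]
    refine dvd_pow_self 2 ?_
    rintro rfl
    rw [pow_zero] at hkq
    omega
  have ht2' : 2 ∣ t := by
    rw [hkt]
    refine dvd_pow_self 2 ?_
    rintro rfl
    rw [pow_zero] at hkt
    subst hkt
    omega
  have hr2 : r ≠ 2 := by
    rintro rfl
    omega
  have hs2 : s ≠ 2 := by
    rintro rfl
    omega
  have two : ∀ {p : ℕ}, p.Prime → p ≠ 2 → ¬ (p : ℤ) ∣ 2 := fun {p} hp hp2 h => by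
    have : p ∣ 2 := by exact_mod_cast h
    exact hp2 ((Nat.prime_dvd_prime_iff_eq hp Nat.prime_two).1 this)
  have notpow : ∀ {p : ℕ}, p.Prime → p ≠ 2 → ∀ {n k : ℕ}, n = 2 ^ k → ¬ p ∣ n := fun {p} hp hp2 {n k} hn h => by
    rw [hn] at h
    exact hp2 ((Nat.prime_dvd_prime_iff_eq hp Nat.prime_two).1 (hp.dvd_of_dvd_pow h))
  have notone : ∀ {p : ℕ}, p.Prime → p ≠ 2 → (p : ℤ) ∣ (q : ℤ) ^ 2 + 1 → ¬ p ∣ q - 1 := fun {p} hp hp2 h h' => by
    have h1 : (p : ℤ) ∣ (q : ℤ) - 1 := by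
      have := Int.natCast_dvd_natCast.2 h'
      push_cast [Nat.cast_sub hq1] at this
      exact this
    apply two hp hp2
    have h2 : (2 : ℤ) = ((q : ℤ) ^ 2 + 1) - (q + 1) * (q - 1) := by ring
    rw [h2]
    exact dvd_sub h (h1.mul_left _)
  have hrt : ¬ r ∣ q - t + 1 := by
    intro h
    have h1 : (r : ℤ) ∣ q - t + 1 := by
      have := Int.natCast_dvd_natCast.2 h
      push_cast [Nat.cast_sub htq] at this
      exact this
    have h2 : (r : ℤ) ∣ 2 * t := by
      have h3 := dvd_sub hr1' h1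
      have e : (q : ℤ) + t + 1 - (q - t + 1) = 2 * t := by ring
      rwa [e] at h3
    have h3 : r ∣ 2 * t := by exact_mod_cast h2
    rcases (Nat.Prime.dvd_mul hr).1 h3 with h4 | h4
    · exact hr2 ((Nat.prime_dvd_prime_iff_eq hr Nat.prime_two).1 h4)
    · exact notpow hr hr2 hkt h4
  have hst : ¬ s ∣ q + t + 1 := by
    intro h
    have h1 : (s : ℤ) ∣ q + t + 1 := by exact_mod_cast Int.natCast_dvd_natCast.2 h
    have h2 : (s : ℤ) ∣ 2 * t := by
      have h3 := dvd_sub h1 hs1'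
      have e : (q : ℤ) + t + 1 - (q - t + 1) = 2 * t := by ring
      rwa [e] at h3
    have h3 : s ∣ 2 * t := by exact_mod_cast h2
    rcases (Nat.Prime.dvd_mul hs).1 h3 with h4 | h4
    · exact hs2 ((Nat.prime_dvd_prime_iff_eq hs Nat.prime_two).1 h4)
    · exact notpow hs hs2 hkt h4
  have four : ∀ {p : ℕ}, p.Prime → p ≠ 2 → ¬ p ∣ 4 := fun {p} hp hp2 => notpow hp hp2 (n := 4) (k := 2) (by norm_num)
  refine ⟨?_, ?_, ?_, ?_, ?_⟩
  · rintro rfl
    exact hrt hs1
  · intro h
    rcases (Nat.Prime.dvd_mul hr).1 h with h | h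
    · rcases (Nat.Prime.dvd_mul hr).1 h with h | h
      · exact notpow hr hr2 hkq (hr.dvd_of_dvd_pow h)
      · exact notone hr hr2 hrq h
    · exact hrt h
  · intro h
    rcases (Nat.Prime.dvd_mul hs).1 h with h | h
    · rcases (Nat.Prime.dvd_mul hs).1 h with h | h
      · exact notpow hs hs2 hkq (hs.dvd_of_dvd_pow h)
      · exact notone hs hs2 hsq h
    · exact hst h
  · intro h
    rcases (Nat.Prime.dvd_mul hs).1 h with h | h
    · exact four hs hs2 h
    · exact hst h
  · intro h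
    rcases (Nat.Prime.dvd_mul hr).1 h with h | h
    · exact four hr hr2 h
    · exact hrt h

theorem row_Sz {F : Type*} [Field F] [Fintype F] {m : ℕ} (hm : 1 ≤ m) (hF : Fintype.card F = 2 ^ (2 * m + 1)) :
    Core ↥(Cfsg.Lie.Sz F (2 ^ (m + 1))) := by
  obtain ⟨e⟩ := Cfsg.Agent.OddCyclic.ClaimC.SzIso.iso (F := F) hm hF
  refine Core.congr e ?_
  have hcard := Cfsg.Agent.S0324.result hm hF
  set q := 2 ^ (2 * m + 1) with hq
  set t := 2 ^ (m + 1) with ht
  have hq8 : 8 ≤ q := by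
    have : 2 ^ 3 ≤ 2 ^ (2 * m + 1) := Nat.pow_le_pow_right (by norm_num) (by omega)
    omega
  have htq : t ≤ q := Nat.pow_le_pow_right (by norm_num) (by omega)
  have htq' : 2 * t ≤ q := by
    have : 2 ^ (m + 2) ≤ 2 ^ (2 * m + 1) := Nat.pow_le_pow_right (by norm_num) (by omega)
    have h2 : 2 ^ (m + 2) = 2 * 2 ^ (m + 1) := by ring
    omega
  have htt : t ^ 2 = 2 * q := by
    rw [ht, hq]
    ring
  have hfin : Finite ↥(Cfsg.Sz F m) := by
    apply Nat.finite_of_card_ne_zero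
    rw [hcard]
    have : q - 1 ≠ 0 := by omega
    (clear * - this; positivity)
  obtain ⟨A, hAc, hAn, hAC, hAN⟩ := Cfsg.Agent.S0333.result hm hF (q + t + 1) (by simp [hq, ht])
  obtain ⟨B, hBc, hBn, hBC, hBN⟩ := Cfsg.Agent.S0333.result hm hF (q - t + 1) (by simp only [hq, ht, _root_.Set.mem_insert_iff, _root_.Nat.add_right_cancel_iff, _root_.Set.mem_singleton_iff, _root_.Nat.add_left_cancel_iff, _root_.or_true])
  obtain ⟨r, hr, hr1⟩ := Nat.exists_prime_and_dvd (n := q + t + 1) (by omega)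
  obtain ⟨s, hs, hs1⟩ := Nat.exists_prime_and_dvd (n := q - t + 1) (by
    have : 1 ≤ t := Nat.one_le_two_pow
    omega)
  obtain ⟨h1, h2, h3, h4, h5⟩ := sz_num hq8 ⟨_, rfl⟩ ⟨_, rfl⟩ htq htt hr hs hr1 hs1
  have hprod : q ^ 2 + 1 = (q + t + 1) * (q - t + 1) := by
    have : (t : ℤ) ^ 2 = 2 * q := by exact_mod_cast htt
    zify [htq]
    linear_combination this
  have hqm : ((q - 1 : ℕ) : ℕ) = q - 1 := rfl
  have hc1 : Nat.card ↥(Cfsg.Sz F m) = (q + t + 1) * (q ^ 2 * (q - 1) * (q - t + 1)) := by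
    rw [hcard, hprod]; ring
  have hc2 : Nat.card ↥(Cfsg.Sz F m) = (q - t + 1) * (q ^ 2 * (q - 1) * (q + t + 1)) := by
    rw [hcard, hprod]; ring
  refine core_tori hr hs h1 (normalizer_le hAC) (normalizer_le hBC) (by rw [hAn]; exact hr1) (by rw [hBn]; exact hs1)
    ?_ ?_ (by rw [hAN]; exact h4) (by rw [hBN]; exact h5)
  · rw [index_of (by omega) hAn hc1]
    exact h2
  · rw [index_of (by omega) hBn hc2]
    exact h3

/-! ### the Ree groups -/

theorem ree_num {q t r s : ℕ} (hq : 27 ≤ q) (hq2 : ∃ k, q = 3 ^ k) (ht2 : ∃ k, t = 3 ^ k) (htq : t ≤ q)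
    (ht : t ^ 2 = 3 * q) (hr : r.Prime) (hs : s.Prime) (hr1 : r ∣ q + t + 1)
    (hs1 : s ∣ q - t + 1) : r ≠ s ∧ ¬ r ∣ q ^ 3 * (q - 1) * (q + 1) * (q - t + 1) ∧
      ¬ s ∣ q ^ 3 * (q - 1) * (q + 1) * (q + t + 1) ∧
      ¬ s ∣ 6 * (q + t + 1) ∧ ¬ r ∣ 6 * (q - t + 1) := by
  obtain ⟨kq, hkq⟩ := hq2
  obtain ⟨kt, hkt⟩ := ht2
  have hq1 : 1 ≤ q := by omega
  have hr1' : (r : ℤ) ∣ q + t + 1 := by exact_mod_cast Int.natCast_dvd_natCast.2 hr1
  have hs1' : (s : ℤ) ∣ q - t + 1 := by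
    have := Int.natCast_dvd_natCast.2 hs1
    push_cast [Nat.cast_sub htq] at this
    exact this
  have hprod : ((q : ℤ) + t + 1) * (q - t + 1) = q ^ 2 - q + 1 := by
    have : (t : ℤ) ^ 2 = 3 * q := by exact_mod_cast ht
    linear_combination -this
  have hrq : (r : ℤ) ∣ (q : ℤ) ^ 2 - q + 1 := by rw [← hprod]; exact hr1'.mul_right _
  have hsq : (s : ℤ) ∣ (q : ℤ) ^ 2 - q + 1 := by rw [← hprod]; exact hs1'.mul_left _
  have hq3' : 3 ∣ q := by
    rw [hkq]
    refine dvd_pow_self 3 ?_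
    rintro rfl
    rw [pow_zero] at hkq
    omega
  have ht3' : 3 ∣ t := by
    rw [hkt]
    refine dvd_pow_self 3 ?_
    rintro rfl
    rw [pow_zero] at hkt
    subst hkt
    omega
  have hq2' : q % 2 = 1 := by
    rw [hkq]
    exact Nat.odd_iff.1 (Odd.pow (by decide))
  have ht2' : t % 2 = 1 := by
    rw [hkt]
    exact Nat.odd_iff.1 (Odd.pow (by decide))
  have hr2 : r ≠ 2 := by
    rintro rfl
    (clear * - hq2' ht2' hr1; omega)
  have hs2 : s ≠ 2 := by
    rintro rfl
    (clear * - hq2' ht2' hs1'; omega)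
  have hr3 : r ≠ 3 := by
    rintro rfl
    (clear * - hq3' ht3' hr1; omega)
  have hs3 : s ≠ 3 := by
    rintro rfl
    (clear * - hq3' ht3' hs1'; omega)
  have three : ∀ {p : ℕ}, p.Prime → p ≠ 3 → ¬ (p : ℤ) ∣ 3 := fun {p} hp hp2 h => by
    have : p ∣ 3 := by exact_mod_cast h
    exact hp2 ((Nat.prime_dvd_prime_iff_eq hp Nat.prime_three).1 this)
  have notpow : ∀ {p : ℕ}, p.Prime → p ≠ 3 → ∀ {n k : ℕ}, n = 3 ^ k → ¬ p ∣ n := fun {p} hp hp2 {n k} hn h => by
    rw [hn] at h
    exact hp2 ((Nat.prime_dvd_prime_iff_eq hp Nat.prime_three).1 (hp.dvd_of_dvd_pow h))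
  have notone : ∀ {p : ℕ}, p.Prime → (p : ℤ) ∣ (q : ℤ) ^ 2 - q + 1 → ¬ p ∣ q - 1 := fun {p} hp h h' => by
    have h1 : (p : ℤ) ∣ (q : ℤ) - 1 := by
      have := Int.natCast_dvd_natCast.2 h'
      push_cast [Nat.cast_sub hq1] at this
      exact this
    have h2 : (p : ℤ) ∣ 1 := by
      have h3 : (1 : ℤ) = ((q : ℤ) ^ 2 - q + 1) - q * (q - 1) := by ring
      rw [h3]
      exact dvd_sub h (h1.mul_left _)
    have h4 : p ∣ 1 := by exact_mod_cast h2
    exact hp.one_lt.ne' (Nat.dvd_one.1 h4)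
  have notadd : ∀ {p : ℕ}, p.Prime → p ≠ 3 → (p : ℤ) ∣ (q : ℤ) ^ 2 - q + 1 → ¬ p ∣ q + 1 := fun {p} hp hp3 h h' => by
    have h1 : (p : ℤ) ∣ (q : ℤ) + 1 := by exact_mod_cast Int.natCast_dvd_natCast.2 h'
    apply three hp hp3
    have h3 : (3 : ℤ) = ((q : ℤ) ^ 2 - q + 1) - (q - 2) * (q + 1) := by ring
    rw [h3]
    exact dvd_sub h (h1.mul_left _)
  have key : ∀ {p : ℕ}, p.Prime → p ≠ 2 → p ≠ 3 → p ∣ q + t + 1 → ¬ p ∣ q - t + 1 := by
    intro p hp hp2 hp3 ha hb
    have ha' : (p : ℤ) ∣ q + t + 1 := by exact_mod_cast Int.natCast_dvd_natCast.2 ha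
    have hb' : (p : ℤ) ∣ q - t + 1 := by
      have := Int.natCast_dvd_natCast.2 hb
      push_cast [Nat.cast_sub htq] at this
      exact this
    have h2 : (p : ℤ) ∣ 2 * t := by
      have h3 := dvd_sub ha' hb'
      have e : (q : ℤ) + t + 1 - (q - t + 1) = 2 * t := by ring
      rwa [e] at h3
    have h3 : p ∣ 2 * t := by exact_mod_cast h2
    rcases (Nat.Prime.dvd_mul hp).1 h3 with h4 | h4
    · exact hp2 ((Nat.prime_dvd_prime_iff_eq hp Nat.prime_two).1 h4)
    · exact notpow hp hp3 hkt h4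
  have six : ∀ {p : ℕ}, p.Prime → p ≠ 2 → p ≠ 3 → ¬ p ∣ 6 := fun {p} hp hp2 hp3 h => by
    have h6 : (6 : ℕ) = 2 * 3 := rfl
    rw [h6] at h
    rcases (Nat.Prime.dvd_mul hp).1 h with h4 | h4
    · exact hp2 ((Nat.prime_dvd_prime_iff_eq hp Nat.prime_two).1 h4)
    · exact hp3 ((Nat.prime_dvd_prime_iff_eq hp Nat.prime_three).1 h4)
  have hrt : ¬ r ∣ q - t + 1 := key hr hr2 hr3 hr1
  have hst : ¬ s ∣ q + t + 1 := fun h => key hs hs2 hs3 h hs1
  refine ⟨?_, ?_, ?_, ?_, ?_⟩
  · rintro rfl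
    exact hrt hs1
  · intro h
    rcases (Nat.Prime.dvd_mul hr).1 h with h | h
    · rcases (Nat.Prime.dvd_mul hr).1 h with h | h
      · rcases (Nat.Prime.dvd_mul hr).1 h with h | h
        · exact notpow hr hr3 hkq (hr.dvd_of_dvd_pow h)
        · exact notone hr hrq h
      · exact notadd hr hr3 hrq h
    · exact hrt h
  · intro h
    rcases (Nat.Prime.dvd_mul hs).1 h with h | h
    · rcases (Nat.Prime.dvd_mul hs).1 h with h | h
      · rcases (Nat.Prime.dvd_mul hs).1 h with h | h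
        · exact notpow hs hs3 hkq (hs.dvd_of_dvd_pow h)
        · exact notone hs hsq h
      · exact notadd hs hs3 hsq h
    · exact hst h
  · intro h
    rcases (Nat.Prime.dvd_mul hs).1 h with h | h
    · exact six hs hs2 hs3 h
    · exact hst h
  · intro h
    rcases (Nat.Prime.dvd_mul hr).1 h with h | h
    · exact six hr hr2 hr3 h
    · exact hrt h

theorem row_Ree {K : Type*} [Field K] [Fintype K] {m : ℕ} (hm : 1 ≤ m) (hK : Fintype.card K = 3 ^ (2 * m + 1)) :
    Core ↥(Cfsg.Lie.twistedG2 K (3 ^ m)) := by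
  have hcard := Cfsg.Agent.S1069.result (K := K) hK
  have hS := Cfsg.Agent.S1158.result hm hK
  set q := 3 ^ (2 * m + 1) with hq
  set t := 3 ^ (m + 1) with ht
  have hq27 : 27 ≤ q := by
    have : 3 ^ 3 ≤ 3 ^ (2 * m + 1) := Nat.pow_le_pow_right (by norm_num) (by omega)
    omega
  have htq : t ≤ q := Nat.pow_le_pow_right (by norm_num) (by omega)
  have htq' : 3 * t ≤ q := by
    have : 3 ^ (m + 2) ≤ 3 ^ (2 * m + 1) := Nat.pow_le_pow_right (by norm_num) (by omega)
    have h2 : 3 ^ (m + 2) = 3 * 3 ^ (m + 1) := by ring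
    omega
  have htt : t ^ 2 = 3 * q := by
    rw [ht, hq]
    ring
  obtain ⟨A, hAc, hAn, hAN, hAC⟩ := hS (q + t + 1, 6 * (q + t + 1)) (by simp only [_root_.Set.mem_insert_iff, _root_.Prod.mk.injEq, _root_.mul_eq_mul_left_iff, _root_.Nat.add_right_cancel_iff, _root_.Nat.add_eq_left, _root_.OfNat.ofNat_ne_zero, _root_.or_false, _root_.and_self, _root_.Set.mem_singleton_iff, _root_.or_true])
  obtain ⟨B, hBc, hBn, hBN, hBC⟩ := hS (q - t + 1, 6 * (q - t + 1)) (by simp only [_root_.Set.mem_insert_iff, _root_.Prod.mk.injEq, _root_.mul_eq_mul_left_iff, _root_.Nat.add_right_cancel_iff, _root_.OfNat.ofNat_ne_zero, _root_.or_false, _root_.Set.mem_singleton_iff, _root_.and_self, _root_.true_or, _root_.or_true])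
  obtain ⟨r, hr, hr1⟩ := Nat.exists_prime_and_dvd (n := q + t + 1) (by omega)
  obtain ⟨s, hs, hs1⟩ := Nat.exists_prime_and_dvd (n := q - t + 1) (by
    have : 1 ≤ t := Nat.one_le_pow _ _ (by norm_num)
    omega)
  obtain ⟨h1, h2, h3, h4, h5⟩ := ree_num hq27 ⟨_, rfl⟩ ⟨_, rfl⟩ htq htt hr hs hr1 hs1
  have hprod : q ^ 3 + 1 = (q + 1) * ((q + t + 1) * (q - t + 1)) := by
    have : (t : ℤ) ^ 2 = 3 * q := by exact_mod_cast htt
    zify [htq]
    linear_combination (q + 1 : ℤ) * this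
  have hc1 : Nat.card ↥(Cfsg.Lie.twistedG2 K (3 ^ m)) = (q + t + 1) * (q ^ 3 * (q - 1) * (q + 1) * (q - t + 1)) := by
    rw [hcard, hprod]; ring
  have hc2 : Nat.card ↥(Cfsg.Lie.twistedG2 K (3 ^ m)) = (q - t + 1) * (q ^ 3 * (q - 1) * (q + 1) * (q + t + 1)) := by
    rw [hcard, hprod]; ring
  have hfin : Finite ↥(Cfsg.Lie.twistedG2 K (3 ^ m)) := by
    apply Nat.finite_of_card_ne_zero
    rw [hcard]
    have : q - 1 ≠ 0 := by omega
    (clear * - this; positivity)
  refine core_tori hr hs h1 (fun A₀ h6 h7 => (hAC A₀ h6 h7).le) (fun A₀ h6 h7 => (hBC A₀ h6 h7).le)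
    (by rw [hAn]; exact hr1) (by rw [hBn]; exact hs1)
    ?_ ?_ (by rw [hAN]; exact h4) (by rw [hBN]; exact h5)
  · rw [index_of (by omega) hAn hc1]
    exact h2
  · rw [index_of (by omega) hBn hc2]
    exact h3

end Cfsg.Agent.H728.DghpHall
end
end
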